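import Cfsg.Agent.Lib.Frobenius.FpfRep
import Cfsg.Agent.Lib.DefectOne.WittEmbed
import Cfsg.Agent.Lib.CharTools.Basic
import Mathlib.NumberTheory.Padics.ProperSpace
import Mathlib.Analysis.Normed.Group.Ultra
import Mathlib.RingTheory.WittVector.Compare
import Mathlib.RepresentationTheory.Basic
import Mathlib.LinearAlgebra.Matrix.ToLin

/-!
# A faithful complex representation for a `p'`-group in `GL_n(p)`

As for `p = 2` in `OddTransitive.Lift`: compatible lifts modulo all powers of `p` by compactness.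
-/

set_option autoImplicit false

open Matrix

namespace CfsgLib.KpRegular

variable {G : Type*} [Group G] [Finite G] {n p : ℕ} [hp : Fact p.Prime]

theorem exists_padic_lift (hnd : ¬ p ∣ Nat.card G)
    (M : G →* Matrix (Fin n) (Fin n) (ZMod p)) :
    ∃ L : G →* Matrix (Fin n) (Fin n) ℤ_[p], ∀ g, (L g).map PadicInt.toZMod = M g := by
  classical
  let S : ℕ → Set (G → Fin n → Fin n → ℤ_[p]) := fun k =>
    {f | (∀ i j, f 1 i j = (1 : Matrix (Fin n) (Fin n) ℤ_[p]) i j) ∧
      (∀ g i j, ‖f g i j - ((M g i j).val : ℤ_[p])‖ ≤ ((p : ℕ) : ℝ) ^ (-(1 : ℕ) : ℤ)) ∧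
      ∀ g h i j, ‖f (g * h) i j - ∑ l, f g i l * f h l j‖ ≤ ((p : ℕ) : ℝ) ^ (-(k : ℕ) : ℤ)}
  have hclosed : ∀ k, IsClosed (S k) := fun k => by
    simp only [S, Set.ofPred_and, Set.ofPred_forall]
    refine IsClosed.inter ?_ (IsClosed.inter ?_ ?_)
    · exact isClosed_iInter fun i => isClosed_iInter fun j => isClosed_eq (by fun_prop) continuous_const
    · exact isClosed_iInter fun g => isClosed_iInter fun i => isClosed_iInter fun j =>
        isClosed_le (by fun_prop) continuous_const
    · exact isClosed_iInter fun g => isClosed_iInter fun h => isClosed_iInter fun i =>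
        isClosed_iInter fun j => isClosed_le (by fun_prop) continuous_const
  have hne : ∀ k, (S k).Nonempty := by
    intro k
    obtain ⟨σ, hσ⟩ := CfsgLib.Frobenius.exists_lift p k n hnd M.toHomUnits
    have : NeZero (p ^ (k + 1)) := ⟨pow_ne_zero _ hp.out.ne_zero⟩
    have : Fact (1 < p ^ (k + 1)) := ⟨Nat.one_lt_pow (by omega) hp.out.one_lt⟩
    refine ⟨fun g i j => (((σ g : Matrix (Fin n) (Fin n) (ZMod (p ^ (k + 1)))) i j).val : ℤ_[p]), fun i j => ?_, fun g i j => ?_,
      fun g h i j => ?_⟩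
    · simp only [map_one, Units.val_one]
      by_cases hij : i = j
      · subst hij
        rw [Matrix.one_apply_eq, Matrix.one_apply_eq, ZMod.val_one, Nat.cast_one]
      · rw [Matrix.one_apply_ne hij, Matrix.one_apply_ne hij, ZMod.val_zero, Nat.cast_zero]
    · have h1 : (M g i j) = ((((σ g : Matrix (Fin n) (Fin n) (ZMod (p ^ (k + 1)))) i j).val : ℕ) : ZMod p) := by
        have h2 := congrFun (congrFun (hσ g) i) j
        rw [Matrix.map_apply, ZMod.castHom_apply, ← ZMod.natCast_val] at h2
        exact h2.symm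
      rw [PadicInt.norm_le_pow_iff_mem_span_pow, pow_one]
      have h3 : (((σ g : Matrix (Fin n) (Fin n) (ZMod (p ^ (k + 1)))) i j).val : ℤ_[p]) - ((M g i j).val : ℤ_[p]) ∈
          RingHom.ker (PadicInt.toZMod : ℤ_[p] →+* ZMod p) := by
        rw [RingHom.mem_ker, map_sub, map_natCast, map_natCast, ← h1, ZMod.natCast_zmod_val, sub_self]
      rw [PadicInt.ker_toZMod, PadicInt.maximalIdeal_eq_span_p] at h3
      simpa using h3
    · refine le_trans ?_ (zpow_le_zpow_right₀ (by exact_mod_cast hp.out.one_lt.le)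
        (show (-((k + 1 : ℕ)) : ℤ) ≤ (-(k : ℕ) : ℤ) by omega))
      have h3 : (((σ (g * h) : Matrix (Fin n) (Fin n) (ZMod (p ^ (k + 1)))) i j).val : ℤ_[p]) -
          ∑ l, (((σ g : Matrix (Fin n) (Fin n) (ZMod (p ^ (k + 1)))) i l).val : ℤ_[p]) * (((σ h : Matrix (Fin n) (Fin n) (ZMod (p ^ (k + 1)))) l j).val : ℤ_[p]) ∈
          RingHom.ker (PadicInt.toZModPow (p := p) (k + 1)) := by
        simp only [RingHom.mem_ker, map_sub, map_sum, map_mul, map_natCast, ZMod.natCast_zmod_val,
          Units.val_mul, Matrix.mul_apply, sub_self]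
      rw [PadicInt.ker_toZModPow] at h3
      exact (PadicInt.norm_le_pow_iff_mem_span_pow _ _).mpr h3
  obtain ⟨f, hf⟩ := IsCompact.nonempty_iInter_of_sequence_nonempty_isCompact_isClosed S
    (fun k f hf => ⟨hf.1, hf.2.1, fun g h i j => (hf.2.2 g h i j).trans
      (zpow_le_zpow_right₀ (by exact_mod_cast hp.out.one_lt.le) (by omega))⟩) hne (hclosed 0).isCompact hclosed
  rw [Set.mem_iInter] at hf
  refine ⟨{ toFun := fun g => Matrix.of (f g)
            map_one' := Matrix.ext fun i j => (hf 0).1 i j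
            map_mul' := fun g h => Matrix.ext fun i j => ?_ }, fun g => ?_⟩
  · rw [Matrix.mul_apply]
    simp only [Matrix.of_apply]
    refine sub_eq_zero.mp (norm_le_zero_iff.mp ?_)
    refine le_of_forall_pos_le_add fun ε hε => ?_
    obtain ⟨k, hk⟩ := PadicInt.exists_pow_neg_lt p hε
    rw [zero_add]
    exact le_of_lt (lt_of_le_of_lt ((hf k).2.2 g h i j) (by exact_mod_cast hk))
  · ext i j
    show PadicInt.toZMod (f g i j) = M g i j
    have h1 := (hf 0).2.1 g i j
    rw [PadicInt.norm_le_pow_iff_mem_span_pow, pow_one] at h1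
    have h2 : f g i j - ((M g i j).val : ℤ_[p]) ∈
        RingHom.ker (PadicInt.toZMod : ℤ_[p] →+* ZMod p) := by
      rw [PadicInt.ker_toZMod, PadicInt.maximalIdeal_eq_span_p]
      simpa using h1
    rwa [RingHom.mem_ker, map_sub, map_natCast, ZMod.natCast_zmod_val, sub_eq_zero] at h2

/-- The `p`-adic integers as a subring of the complex numbers. -/
noncomputable def padicEmb (p : ℕ) [Fact p.Prime] : ℤ_[p] →+* ℂ :=
  ((CfsgLib.DefectOne.emb p).comp (WittVector.map (algebraMap (ZMod p) (CfsgLib.DefectOne.kbar p)))).comp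
    (WittVector.equiv p).symm.toRingHom

theorem padicEmb_injective (p : ℕ) [Fact p.Prime] : Function.Injective (padicEmb p) :=
  ((CfsgLib.DefectOne.emb_injective p).comp
    (WittVector.map_injective _ (algebraMap (ZMod p) (CfsgLib.DefectOne.kbar p)).injective)).comp
    (WittVector.equiv p).symm.injective

/-- A `p'`-group in `GL_n(p)` has a faithful complex character of degree `n`. -/
theorem exists_faithful_character (hnd : ¬ p ∣ Nat.card G)
    (M : G →* Matrix (Fin n) (Fin n) (ZMod p)) (hinj : Function.Injective M) :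
    ∃ χ : G → ℂ, Cfsg.IsCharacter G χ ∧ (∀ g, χ g = χ 1 → g = 1) ∧ Cfsg.charDegree χ = n := by
  classical
  obtain ⟨L, hL⟩ := exists_padic_lift hnd M
  let ρ : Representation ℂ G (Fin n → ℂ) :=
    (((Matrix.toLinAlgEquiv' : Matrix (Fin n) (Fin n) ℂ ≃ₐ[ℂ] _).toMulEquiv.toMonoidHom).comp
      ((padicEmb p).mapMatrix (m := Fin n)).toMonoidHom).comp L
  have hρ : ∀ g v, ρ g v = (L g).map (padicEmb p) *ᵥ v := fun g v => by
    simp [ρ, Matrix.toLinAlgEquiv'_apply]
  have hρi : Function.Injective ρ := fun g g' hgg => hinj (by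
    have h1 : (L g).map (padicEmb p) = (L g').map (padicEmb p) :=
      Matrix.ext_of_mulVec_single fun i => by rw [← hρ, ← hρ, hgg]
    rw [← hL, ← hL, Matrix.map_injective (padicEmb_injective p) h1])
  refine ⟨ρ.character, Char.isCharacter_character ρ, fun g hg => ?_,
    (Char.degree_character ρ).trans (Module.finrank_fin_fun ℂ)⟩
  exact hρi (((Char.character_eq_degree_iff ρ g).mp (by rw [hg, Representation.char_one])).trans
    (map_one ρ).symm)

end CfsgLib.KpRegular
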