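import Cfsg.Agent.Lib.KpRegular.Orbit
import Cfsg.Agent.Lib.KpRegular.Lift
import Cfsg.Agent.Lib.Char.Complete
import Cfsg.Agent.Lib.OddTransitive.Singer
import Cfsg.Agent.Lib.SelfCentNoncyclic.Dihedral
import Cfsg.Agent.S4485
import Cfsg.Agent.S4503

/-!
# A primitive prime divisor with a normal Sylow subgroup: many classes

An element of primitive prime order acts irreducibly, so its centraliser is cyclic; if it spans a
normal subgroup the centraliser has index at most `n` and the group has many classes.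
-/

set_option autoImplicit false

open MulAction

namespace CfsgLib.KpRegular

variable {D E : Type*} [Group D] [Finite D] [AddCommGroup E] [Finite E] [DistribMulAction D E]
  {p : ℕ} [hp : Fact p.Prime]

theorem exists_card_eq_pow (hE : ∀ e : E, p • e = 0) (W : AddSubgroup E) :
    ∃ i, Nat.card W = p ^ i := by
  have h : IsPGroup p (Multiplicative ↥W) := fun w => ⟨1, by
    apply Multiplicative.toAdd.injective
    apply Subtype.ext
    simpa using hE ((Multiplicative.toAdd w : ↥W) : E)⟩
  obtain ⟨i, hi⟩ := IsPGroup.iff_card.mp h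
  exact ⟨i, (Nat.card_congr Multiplicative.ofAdd).trans hi⟩

/-- An additive subgroup invariant under an element of primitive prime order is trivial or all. -/
theorem eq_bot_or_top_of_invariant (hE : ∀ e : E, p • e = 0) [FaithfulSMul D E] {n r : ℕ}
    [hr : Fact r.Prime] (hn : 0 < n)
    (hcard : Nat.card E = p ^ n) (hrd : r ∣ p ^ n - 1)
    (hmin : ∀ k, 0 < k → k < n → ¬ r ∣ p ^ k - 1) {x : D} (hx : orderOf x = r) (W : AddSubgroup E)
    (hW : ∀ w ∈ W, x • w ∈ W) : W = ⊥ ∨ W = ⊤ := by
  have hord := (Zsigmondy.dvd_sub_one_of_primitive hp.out.pos hn hrd hmin).1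
  have key : ∀ i ≤ n, (p : ZMod r) ^ i = 1 → i = 0 ∨ i = n := by
    intro i hi h
    rcases Nat.eq_zero_or_pos i with h0 | h0
    · exact Or.inl h0
    · refine Or.inr (le_antisymm hi ?_)
      rw [← hord]
      exact orderOf_le_of_pow_eq_one h0 h
  have hpowle : ∀ {U : AddSubgroup E} {i : ℕ}, Nat.card U = p ^ i → i ≤ n := by
    intro U i hi
    exact (Nat.pow_le_pow_iff_right hp.out.one_lt).mp
      (hi ▸ hcard ▸ Nat.card_le_card_of_injective (fun u : U => (u : E)) Subtype.val_injective)
  have hX : IsPGroup r (Subgroup.zpowers x) :=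
    IsPGroup.of_card (n := 1) (by rw [Nat.card_zpowers, hx, pow_one])
  have hpow : ∀ (g : Subgroup.zpowers x) (w : E), w ∈ W → (g : D) • w ∈ W := by
    intro g w hw
    obtain ⟨k, hk⟩ := mem_powers_iff_mem_zpowers.mpr g.2
    have hkk : x ^ k = (g : D) := hk
    rw [← hkk]
    clear hk hkk
    induction k with
    | zero => simpa using hw
    | succ k ih => rw [pow_succ', mul_smul]; exact hW _ ih
  let F : AddSubgroup E :=
    { carrier := {e | x • e = e}
      zero_mem' := smul_zero _
      add_mem' := fun {u v} hu hv => by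
        simp only [Set.mem_ofPred_eq] at hu hv ⊢
        rw [smul_add, hu, hv]
      neg_mem' := fun {u} hu => by
        simp only [Set.mem_ofPred_eq] at hu ⊢
        rw [smul_neg, hu] }
  have hfixE : fixedPoints (Subgroup.zpowers x) E = (F : Set E) := by
    ext e
    refine ⟨fun h => h ⟨x, Subgroup.mem_zpowers x⟩, fun h g => ?_⟩
    have h1 : x ∈ stabilizer D e := h
    exact Subgroup.zpowers_le.mpr h1 g.2
  have hpn : (p : ZMod r) ^ n = 1 := by rw [← hord]; exact pow_orderOf_eq_one _
  have hF : F = ⊥ := by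
    obtain ⟨i, hi⟩ := exists_card_eq_pow hE F
    have h := hX.card_modEq_card_fixedPoints (α := E)
    rw [hfixE, hcard, SetLike.coe_sort_coe, hi, ← ZMod.natCast_eq_natCast_iff, Nat.cast_pow,
      Nat.cast_pow, hpn] at h
    rcases key i (hpowle hi) h.symm with h0 | h0
    · exact AddSubgroup.card_eq_one.mp (by rw [hi, h0, pow_zero])
    · exfalso
      have hT : F = ⊤ := AddSubgroup.eq_top_of_card_eq F (by rw [hi, h0, hcard])
      refine hr.out.ne_one (hx ▸ orderOf_eq_one_iff.mpr (FaithfulSMul.eq_of_smul_eq_smul fun e : E => ?_))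
      rw [one_smul]
      exact (hT ▸ AddSubgroup.mem_top e : e ∈ F)
  let : MulAction (Subgroup.zpowers x) W :=
    { smul := fun g w => ⟨(g : D) • (w : E), hpow g w w.2⟩
      one_smul := fun w => Subtype.ext (one_smul D (w : E))
      mul_smul := fun g h w => Subtype.ext (mul_smul (g : D) (h : D) (w : E)) }
  have hfixW : fixedPoints (Subgroup.zpowers x) W = {0} := by
    ext w
    refine ⟨fun h => ?_, fun h g => ?_⟩
    · have h1 : (w : E) ∈ F := congrArg Subtype.val (h ⟨x, Subgroup.mem_zpowers x⟩)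
      rw [hF] at h1
      exact Subtype.ext h1
    · rw [Set.mem_singleton_iff.mp h]
      exact Subtype.ext (smul_zero (g : D))
  obtain ⟨i, hi⟩ := exists_card_eq_pow hE W
  have h := hX.card_modEq_card_fixedPoints (α := W)
  rw [hfixW, hi, Nat.card_coe_set_eq, Set.ncard_singleton, ← ZMod.natCast_eq_natCast_iff,
    Nat.cast_pow, Nat.cast_one] at h
  rcases key i (hpowle hi) h with h0 | h0
  · exact Or.inl (AddSubgroup.card_eq_one.mp (by rw [hi, h0, pow_zero]))
  · exact Or.inr (AddSubgroup.eq_top_of_card_eq W (by rw [hi, h0, hcard]))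

omit [Finite E] in
/-- The action as a homomorphism to the linear endomorphisms. -/
theorem exists_linear [Module (ZMod p) E] [FaithfulSMul D E] :
    ∃ ψ : D →* Module.End (ZMod p) E, Function.Injective ψ := by
  refine ⟨{ toFun := fun g => (DistribSMul.toAddMonoidHom E g).toZModLinearMap p
            map_one' := LinearMap.ext fun w => one_smul D w
            map_mul' := fun g g' => LinearMap.ext fun w => mul_smul g g' w }, fun g g' h => ?_⟩
  exact FaithfulSMul.eq_of_smul_eq_smul fun w : E => LinearMap.congr_fun h w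

theorem finrank_eq [Module (ZMod p) E] {n : ℕ} (hcard : Nat.card E = p ^ n) :
    Module.finrank (ZMod p) E = n := by
  haveI hfd : Module.Finite (ZMod p) E := Module.Finite.of_finite
  have h := Module.natCard_eq_pow_finrank (K := ZMod p) (V := E)
  rw [hcard, Nat.card_zmod] at h
  exact (Nat.pow_right_injective hp.out.two_le h).symm

/-- A transitive action on the nonzero vectors: `p ^ n - 1` divides the order. -/
theorem pow_sub_one_dvd_card [Nontrivial E] {n : ℕ} (hcard : Nat.card E = p ^ n)
    (htrans : ∀ a b : E, a ≠ 0 → b ≠ 0 → ∃ d : D, d • a = b) : p ^ n - 1 ∣ Nat.card D := by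
  obtain ⟨e, he⟩ := exists_ne (0 : E)
  have h : orbit D e = ({0} : Set E)ᶜ := by
    ext v
    refine ⟨?_, fun hv => htrans e v he hv⟩
    rintro ⟨d, rfl⟩ h0
    exact he (smul_left_cancel d (h0.trans (smul_zero d).symm))
  have h1 := MulAction.index_stabilizer D e
  rw [h, Set.ncard_compl, Set.ncard_singleton, hcard] at h1
  exact h1 ▸ Subgroup.index_dvd_card _

/-- A faithful complex character of degree `n`. -/
theorem exists_character [FaithfulSMul D E] (hE : ∀ e : E, p • e = 0) (hD : ¬ p ∣ Nat.card D)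
    {n : ℕ} (hcard : Nat.card E = p ^ n) :
    ∃ χ : D → ℂ, Cfsg.IsCharacter D χ ∧ (∀ g, χ g = χ 1 → g = 1) ∧ Cfsg.charDegree χ = n := by
  classical
  let : Module (ZMod p) E := AddCommGroup.zmodModule (n := p) hE
  haveI hfd : Module.Finite (ZMod p) E := Module.Finite.of_finite
  obtain ⟨ψ, hψ⟩ := exists_linear (D := D) (E := E) (p := p)
  let b := Module.finBasisOfFinrankEq (ZMod p) E (finrank_eq (p := p) (E := E) hcard)
  exact exists_faithful_character hD
    ((LinearMap.toMatrixAlgEquiv b).toRingEquiv.toRingHom.toMonoidHom.comp ψ)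
    ((LinearMap.toMatrixAlgEquiv b).injective.comp hψ)

/-- With a normal subgroup of primitive prime order there are many classes. -/
theorem le_mul_classes [FaithfulSMul D E] [Nontrivial E] (hE : ∀ e : E, p • e = 0)
    {n r : ℕ} [hr : Fact r.Prime] (hn : 0 < n) (hcard : Nat.card E = p ^ n) (hrd : r ∣ p ^ n - 1)
    (hmin : ∀ k, 0 < k → k < n → ¬ r ∣ p ^ k - 1) {x : D} (hx : orderOf x = r)
    (hnorm : (Subgroup.zpowers x).Normal) :
    Nat.card D ≤ n * n * Nat.card (ConjClasses D) := by
  classical
  have hrp : r ≠ p := by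
    rintro rfl
    have h1 : r ∣ r ^ n := dvd_pow_self r hn.ne'
    have h2 := Nat.dvd_sub h1 hrd
    rw [show r ^ n - (r ^ n - 1) = 1 by have := Nat.one_le_pow n r hr.out.pos; omega] at h2
    exact hr.out.ne_one (Nat.dvd_one.mp h2)
  let : Module (ZMod p) E := AddCommGroup.zmodModule (n := p) hE
  haveI hfd : Module.Finite (ZMod p) E := Module.Finite.of_finite
  obtain ⟨ψ, hψ⟩ := exists_linear (D := D) (E := E) (p := p)
  set C := Subgroup.centralizer ({x} : Set D) with hC
  have hcyc : IsCyclic C := OddTransitive.isCyclic_centralizer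
    (eq_bot_or_top_of_invariant hE hn hcard hrd hmin hx)
  have hCn : C.Normal := by
    have h : C = Subgroup.centralizer ((Subgroup.zpowers x : Subgroup D) : Set D) := by
      rw [hC, Subgroup.zpowers_eq_closure, Subgroup.centralizer_closure]
    rw [h]; infer_instance
  have hidx : C.index ≤ n := by
    rw [hC, Char.index_centralizer_eq_card_isConj]
    refine le_trans (le_of_eq (Nat.card_coe_set_eq {y : D | IsConj x y}))
      (le_trans (Set.ncard_le_ncard (fun y hy => ?_) (Set.toFinite _))
        (le_of_le_of_eq (ncard_conj_zpowers_le ψ hψ hrp hx) (finrank_eq (p := p) (E := E) hcard)))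
    obtain ⟨g, hg⟩ := isConj_iff.mp (hy : IsConj x y)
    exact ⟨hg ▸ hnorm.conj_mem x (Subgroup.mem_zpowers x) g, hy⟩
  have hpos : 0 < n := hn
  have := Fintype.ofFinite D
  have := Fintype.ofFinite (ConjClasses D)
  have hCk : Nat.card C ≤ n * Nat.card (ConjClasses D) := by
    rw [Nat.card_eq_fintype_card, Nat.card_eq_fintype_card, ← Finset.card_univ, ← Finset.card_univ (α := ConjClasses D)]
    refine Finset.card_le_mul_card_image_of_maps_to (f := fun c : C => ConjClasses.mk (c : D))
      (fun c _ => Finset.mem_univ _) n fun k _ => ?_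
    by_cases hne : (Finset.univ.filter fun c : C => ConjClasses.mk (c : D) = k).Nonempty
    · obtain ⟨c₀, hc₀⟩ := hne
      rw [Finset.mem_filter] at hc₀
      have hle : C ≤ Subgroup.centralizer ({(c₀ : D)} : Set D) := fun d hd =>
        Subgroup.mem_centralizer_singleton_iff.mpr
          (congrArg Subtype.val (hcyc.commGroup.mul_comm ⟨d, hd⟩ c₀))
      refine le_trans ?_ ((Nat.le_of_dvd (Nat.pos_of_ne_zero Subgroup.FiniteIndex.index_ne_zero)
        (Subgroup.index_dvd_of_le hle)).trans hidx)
      rw [Char.index_centralizer_eq_card_isConj, ← Set.ncard_coe_finset]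
      refine le_of_le_of_eq ?_ (Nat.card_coe_set_eq {y : D | IsConj (c₀ : D) y}).symm
      refine Set.ncard_le_ncard_of_injOn (fun c : C => (c : D)) (fun c hc => ?_)
        (fun a _ b _ h => Subtype.ext h) (Set.toFinite _)
      rw [Finset.mem_coe, Finset.mem_filter] at hc
      exact (ConjClasses.mk_eq_mk_iff_isConj.mp (hc.2.trans hc₀.2.symm)).symm
    · rw [Finset.not_nonempty_iff_eq_empty.mp hne]; simp
  calc Nat.card D = Nat.card C * C.index := (C.card_mul_index).symm
    _ ≤ (n * Nat.card (ConjClasses D)) * n := Nat.mul_le_mul hCk hidx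
    _ = _ := by ring

/-- Unless the primitive prime is small and simple in the order, it spans a normal subgroup. -/
theorem exists_normal_zpowers [FaithfulSMul D E] [Nontrivial E] (hE : ∀ e : E, p • e = 0)
    (hD : ¬ p ∣ Nat.card D) {n r : ℕ} [hr : Fact r.Prime] (hn : 1 < n) (hcard : Nat.card E = p ^ n)
    (hrd : r ∣ p ^ n - 1) (hmin : ∀ k, 0 < k → k < n → ¬ r ∣ p ^ k - 1)
    (hrG : r ∣ Nat.card D) (hbig : r ^ 2 ∣ Nat.card D ∨ 2 * n + 1 < r) :
    ∃ x : D, orderOf x = r ∧ (Subgroup.zpowers x).Normal := by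
  classical
  have hrn : n ∣ r - 1 := (Zsigmondy.dvd_sub_one_of_primitive hp.out.pos (by omega) hrd hmin).2
  have hnr : n + 1 ≤ r := by
    have h2 := hr.out.two_le
    have := Nat.le_of_dvd (by omega) hrn
    omega
  obtain ⟨χ, hχ, hfaith, hdn⟩ := exists_character hE hD hcard
  have hcyc : ∀ x : D, orderOf x = r → IsCyclic (Subgroup.centralizer ({x} : Set D)) :=
    fun x hx => OddTransitive.isCyclic_centralizer (eq_bot_or_top_of_invariant hE (by omega) hcard hrd hmin hx)
  by_cases hsq : r ^ 2 ∣ Nat.card D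
  · obtain ⟨P⟩ : Nonempty (Sylow r D) := inferInstance
    obtain ⟨k, hk⟩ := IsPGroup.iff_card.mp P.2
    have hk2 : 2 ≤ k := by
      have h1 := P.pow_dvd_card_of_pow_dvd_card hsq
      rw [hk] at h1
      exact Nat.pow_dvd_pow_iff_le_right hr.out.one_lt |>.mp h1
    have : Nontrivial (P : Subgroup D) := (Finite.one_lt_card_iff_nontrivial).mp
      (hk ▸ Nat.one_lt_pow (by omega) hr.out.one_lt)
    obtain ⟨z, hz⟩ := exists_prime_orderOf_dvd_card' (G := Subgroup.center (P : Subgroup D)) r
      (((P.2.to_subgroup (Subgroup.center (P : Subgroup D))).card_eq_or_dvd).resolve_left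
        (fun h => not_subsingleton_iff_nontrivial.mpr P.2.center_nontrivial (Nat.card_eq_one_iff_unique.mp h).1))
    set x : D := ((z : (P : Subgroup D)) : D) with hxdef
    have hx : orderOf x = r := by
      rw [hxdef, Subgroup.orderOf_coe, Subgroup.orderOf_coe, hz]
    have hxP : x ∈ (P : Subgroup D) := (z : (P : Subgroup D)).2
    have hPC : (P : Subgroup D) ≤ Subgroup.centralizer {x} := fun y hy =>
      Subgroup.mem_centralizer_singleton_iff.mpr
        (congrArg Subtype.val (Subgroup.mem_center_iff.mp z.2 ⟨y, hy⟩))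
    have hC := hcyc x hx
    have hPc : IsCyclic (P : Subgroup D) :=
      isCyclic_of_injective (Subgroup.inclusion hPC) (Subgroup.inclusion_injective hPC)
    have hPn : (P : Subgroup D).Normal := by
      refine Cfsg.Agent.S4485.result r hr.out hrG P (fun y hy hy1 => le_antisymm ?_ ?_) k hk χ hχ
        hfaith ?_
      · obtain ⟨i, hi, hio⟩ := (Nat.dvd_prime_pow hr.out).mp
          (hk ▸ Subgroup.orderOf_mk y hy ▸ orderOf_dvd_natCard (⟨y, hy⟩ : (P : Subgroup D)))
        have hi1 : 1 ≤ i := Nat.pos_of_ne_zero fun h0 => hy1 (orderOf_eq_one_iff.mp (by rw [hio, h0, pow_zero]))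
        have hw : orderOf (y ^ r ^ (i - 1)) = r := by
          rw [orderOf_pow_of_dvd (pow_ne_zero _ hr.out.ne_zero) (hio ▸ pow_dvd_pow r (Nat.sub_le _ _)),
            hio, Nat.pow_div (Nat.sub_le _ _) hr.out.pos, show i - (i - 1) = 1 by omega, pow_one]
        have hCw := hcyc _ hw
        have hmem : ∀ g, g ∈ Subgroup.centralizer {y} →
            g ∈ Subgroup.centralizer {y ^ r ^ (i - 1)} := fun g hg =>
          Subgroup.mem_centralizer_singleton_iff.mpr
            ((show Commute g y from Subgroup.mem_centralizer_singleton_iff.mp hg).pow_right _).eq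
        intro g hg
        rw [Subgroup.mem_centralizer_iff]
        intro w hw'
        have hwy : w ∈ Subgroup.centralizer {y} := Subgroup.mem_centralizer_singleton_iff.mpr
          (congrArg Subtype.val (hPc.commGroup.mul_comm ⟨w, hw'⟩ ⟨y, hy⟩))
        exact congrArg Subtype.val (hCw.commGroup.mul_comm ⟨w, hmem w hwy⟩ ⟨g, hmem g hg⟩)
      · intro g hg
        exact Subgroup.mem_centralizer_singleton_iff.mpr (Subgroup.mem_centralizer_iff.mp hg y hy).symm
      · rw [hdn]
        calc n ^ 2 + 1 < (n + 1) ^ 2 := by nlinarith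
          _ ≤ r ^ 2 := Nat.pow_le_pow_left hnr 2
          _ ≤ r ^ k := Nat.pow_le_pow_right hr.out.pos hk2
    refine ⟨x, hx, ⟨fun y hy g => ?_⟩⟩
    have h1 : g * x * g⁻¹ ∈ (P : Subgroup D) := hPn.conj_mem x hxP g
    have h2 : Subgroup.zpowers (⟨g * x * g⁻¹, h1⟩ : (P : Subgroup D)) =
        Subgroup.zpowers (⟨x, hxP⟩ : (P : Subgroup D)) :=
      SelfCentNoncyclic.zpowers_eq_of_orderOf_eq (by
        rw [Subgroup.orderOf_mk, Subgroup.orderOf_mk]
        exact (MulAut.conj g).orderOf_eq x)
    have h3 : g * x * g⁻¹ ∈ Subgroup.zpowers x := by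
      obtain ⟨j, hj⟩ := (h2 ▸ Subgroup.mem_zpowers _ :
        (⟨g * x * g⁻¹, h1⟩ : (P : Subgroup D)) ∈ Subgroup.zpowers (⟨x, hxP⟩ : (P : Subgroup D)))
      exact ⟨j, congrArg Subtype.val hj⟩
    obtain ⟨j, rfl⟩ := hy
    show g * x ^ j * g⁻¹ ∈ Subgroup.zpowers x
    rw [← conj_zpow]
    exact Subgroup.zpow_mem _ h3 j
  · by_cases hnn : ∀ H : Subgroup D, H.Normal → Nat.card H ≠ r
    · exfalso
      have h1 := Cfsg.Agent.S4503.result r hr.out hrG hsq hnn χ hχ hfaith
      rw [hdn] at h1
      rcases hbig with h | h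
      · exact hsq h
      · omega
    · push Not at hnn
      obtain ⟨H, hH, hHc⟩ := hnn
      obtain ⟨z, hz⟩ := exists_prime_orderOf_dvd_card' (G := H) r (hHc ▸ dvd_refl r)
      refine ⟨z, by rw [Subgroup.orderOf_coe, hz], ?_⟩
      have h : Subgroup.zpowers (z : D) = H :=
        Subgroup.eq_of_le_of_card_ge (Subgroup.zpowers_le.mpr z.2)
          (by rw [Nat.card_zpowers, Subgroup.orderOf_coe, hz, hHc])
      rw [h]; exact hH

end CfsgLib.KpRegular
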