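import Cfsg.Agent.Lib.KpRegular.TwoDimArith

/-!
# The class equation of a finite group of operators of order prime to `p` on a plane
-/

set_option autoImplicit false
set_option linter.unusedSectionVars false
set_option linter.style.haveILetI false

namespace CfsgLib.KpRegular

variable {D : Type*} [Group D] {E : Type*} [AddCommGroup E] [DistribMulAction D E]
variable (p : ℕ) [Fact p.Prime] [Module (ZMod p) E]

theorem smul_scalar (d : D) (a : ZMod p) (e : E) : d • (a • e) = a • (d • e) :=
  ZMod.map_smul (DistribSMul.toAddMonoidHom E d) a e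

variable (D E) in
/-- The elements acting as scalars. -/
def scal : Subgroup D where
  carrier := {d | ∃ a : (ZMod p)ˣ, ∀ e : E, d • e = (a : ZMod p) • e}
  one_mem' := ⟨1, fun e => by simp⟩
  mul_mem' := by
    rintro x y ⟨a, ha⟩ ⟨b, hb⟩
    exact ⟨a * b, fun e => by rw [mul_smul, hb, smul_scalar, ha, Units.val_mul, mul_comm, mul_smul]⟩
  inv_mem' := by
    rintro x ⟨a, ha⟩
    refine ⟨a⁻¹, fun e => ?_⟩
    calc x⁻¹ • e = x⁻¹ • ((a : ZMod p) • ((a⁻¹ : (ZMod p)ˣ) : ZMod p) • e) := by
          rw [← mul_smul (a : ZMod p), Units.mul_inv, one_smul]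
      _ = _ := by rw [← ha, inv_smul_smul]

variable [FaithfulSMul D E]

theorem scal_le_centralizer (s : Set D) : scal D E p ≤ Subgroup.centralizer s := by
  rintro x ⟨a, ha⟩
  refine Subgroup.mem_centralizer_iff.2 fun y _ => ?_
  refine eq_of_smul_eq_smul fun e : E => ?_
  rw [mul_smul, mul_smul, ha, ha, smul_scalar]

theorem conj_not_mem_scal {d : D} (hd : d ∉ scal D E p) (n : D) : n * d * n⁻¹ ∉ scal D E p := by
  intro h
  obtain ⟨a, ha⟩ := h
  refine hd ⟨a, fun e => ?_⟩
  have := ha (n • e)
  rw [mul_smul, inv_smul_smul, mul_smul, ← smul_scalar] at this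
  exact smul_left_cancel n this

theorem mem_scal_of_smul [Nontrivial E] {d : D} {a : ZMod p} (ha : ∀ e : E, d • e = a • e) :
    d ∈ scal D E p := by
  have h0 : a ≠ 0 := by
    rintro rfl
    obtain ⟨e, he⟩ := exists_ne (0 : E)
    refine he ?_
    have := ha e
    rw [zero_smul] at this
    exact (smul_eq_zero_iff_eq d).1 this
  exact ⟨Units.mk0 a h0, ha⟩

theorem card_scal_dvd [Finite D] [Nontrivial E] : Nat.card (scal D E p) ∣ p - 1 := by
  obtain ⟨e0, he0⟩ := exists_ne (0 : E)
  let f : scal D E p → (ZMod p)ˣ := fun d => d.2.choose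
  have hf : ∀ (d : scal D E p) (e : E), (d : D) • e = (f d : ZMod p) • e := fun d => d.2.choose_spec
  have huniq : ∀ a b : (ZMod p)ˣ, (a : ZMod p) • e0 = (b : ZMod p) • e0 → a = b := fun a b h =>
    Units.ext (smul_left_injective (ZMod p) he0 h)
  let F : scal D E p →* (ZMod p)ˣ := MonoidHom.mk' f fun x y => huniq _ _ (by
    rw [← hf, Subgroup.coe_mul, mul_smul, hf, hf, ← mul_smul, Units.val_mul])
  have hinj : Function.Injective F := fun x y h => Subtype.ext (eq_of_smul_eq_smul fun e : E => by
    rw [hf, hf]; exact congrArg (fun a : (ZMod p)ˣ => (a : ZMod p) • e) h)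
  have := Subgroup.card_dvd_of_injective F hinj
  rwa [Nat.card_eq_fintype_card (α := (ZMod p)ˣ), ZMod.card_units] at this

section Plane

variable [Finite E] (hcard : Nat.card E = p ^ 2)
include hcard

theorem plane_nontrivial : Nontrivial E :=
  Finite.one_lt_card_iff_nontrivial.1 (by
    rw [hcard]; exact Nat.one_lt_pow two_ne_zero (Fact.out : p.Prime).one_lt)

theorem exists_cyclic_vector {d : D} (hd : d ∉ scal D E p) :
    ∃ v : E, Function.Bijective fun ab : ZMod p × ZMod p => ab.1 • v + ab.2 • d • v := by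
  haveI := plane_nontrivial p hcard
  have key : ∃ v : E, v ≠ 0 ∧ ∀ c : ZMod p, d • v ≠ c • v := by
    by_contra hne
    push Not at hne
    obtain ⟨v0, hv0⟩ := exists_ne (0 : E)
    obtain ⟨c, hc⟩ := hne v0 hv0
    refine hd (mem_scal_of_smul p (a := c) fun e => ?_)
    by_cases he : ∃ r : ZMod p, e = r • v0
    · obtain ⟨r, rfl⟩ := he
      rw [smul_scalar, hc, smul_comm]
    · push Not at he
      obtain ⟨c', hc'⟩ := hne e (fun h => he 0 (by rw [h, zero_smul]))
      obtain ⟨c'', hc''⟩ := hne (e + v0) (fun h => he (-1) (by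
        rw [neg_one_smul]; exact eq_neg_of_add_eq_zero_left h))
      rw [smul_add, hc, hc'] at hc''
      have h1 : (c' - c'') • e = (c'' - c) • v0 := by
        linear_combination (norm := module) hc''
      have h2 : c' - c'' = 0 := by
        by_contra h
        exact he ((c' - c'')⁻¹ * (c'' - c)) (by rw [mul_smul, ← h1, smul_smul, inv_mul_cancel₀ h, one_smul])
      rw [h2, zero_smul] at h1
      have h3 : c'' - c = 0 := (smul_eq_zero.1 h1.symm).resolve_right hv0
      rw [hc', sub_eq_zero.1 h2, sub_eq_zero.1 h3]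
  obtain ⟨v, hv, hdv⟩ := key
  refine ⟨v, (Nat.bijective_iff_injective_and_card _).2 ⟨?_, ?_⟩⟩
  · rintro ⟨a, b⟩ ⟨a', b'⟩ h
    simp only at h
    have h' : (a - a') • v = (b' - b) • d • v := by
      generalize d • v = w at h ⊢
      linear_combination (norm := module) h
    have hb : b' - b = 0 := by
      by_contra hb
      exact hdv ((b' - b)⁻¹ * (a - a'))
        (by rw [mul_smul, h', smul_smul, inv_mul_cancel₀ hb, one_smul])
    rw [hb, zero_smul] at h'
    have ha := (smul_eq_zero.1 h').resolve_right hv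
    simp [sub_eq_zero.1 ha, (sub_eq_zero.1 hb)]
  · rw [Nat.card_prod, Nat.card_zmod, hcard, sq]

theorem comm_form {d x : D} (hd : d ∉ scal D E p) (hx : Commute x d) :
    ∃ a b : ZMod p, ∀ e : E, x • e = a • e + b • d • e := by
  obtain ⟨v, hv⟩ := exists_cyclic_vector p hcard hd
  obtain ⟨⟨a, b⟩, hab⟩ := hv.2 (x • v)
  simp only at hab
  refine ⟨a, b, fun e => ?_⟩
  obtain ⟨⟨r, s⟩, rfl⟩ := hv.2 e
  have hxd : x • d • v = d • x • v := by rw [← mul_smul, hx.eq, mul_smul]
  simp only [smul_add, smul_scalar, hxd, ← hab]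
  generalize d • d • v = w₂
  generalize d • v = w₁
  module

theorem comm_comm {d x y : D} (hd : d ∉ scal D E p)
    (hx : x ∈ Subgroup.centralizer ({d} : Set D)) (hy : y ∈ Subgroup.centralizer ({d} : Set D)) :
    x * y = y * x := by
  have hy' : Commute y d := Subgroup.mem_centralizer_singleton_iff.1 hy
  obtain ⟨a, b, hab⟩ := comm_form p hcard hd (Subgroup.mem_centralizer_singleton_iff.1 hx)
  refine eq_of_smul_eq_smul fun e : E => ?_
  rw [mul_smul, mul_smul, hab, hab e, smul_add, smul_scalar, smul_scalar, ← mul_smul y d,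
    hy'.eq, mul_smul]

theorem centralizer_eq {d d' : D} (hd : d ∉ scal D E p)
    (h : d' ∈ Subgroup.centralizer ({d} : Set D)) (hd' : d' ∉ scal D E p) :
    Subgroup.centralizer ({d'} : Set D) = Subgroup.centralizer ({d} : Set D) := by
  haveI := plane_nontrivial p hcard
  refine le_antisymm (fun x hx => ?_) (fun x hx => ?_)
  · have hx' : Commute x d' := Subgroup.mem_centralizer_singleton_iff.1 hx
    obtain ⟨a, b, hab⟩ := comm_form p hcard hd (Subgroup.mem_centralizer_singleton_iff.1 h)
    have hb : b ≠ 0 := by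
      rintro rfl
      exact hd' (mem_scal_of_smul p (a := a) fun e => by rw [hab, zero_smul, add_zero])
    refine Subgroup.mem_centralizer_singleton_iff.2 (eq_of_smul_eq_smul fun e : E => ?_)
    have h1 : x • d' • e = d' • x • e := by rw [← mul_smul, hx'.eq, mul_smul]
    rw [hab, hab, smul_add, smul_scalar, smul_scalar] at h1
    rw [mul_smul, mul_smul]
    exact smul_right_injective E hb (add_left_cancel h1)
  · exact Subgroup.mem_centralizer_singleton_iff.2 (comm_comm p hcard hd hx h)

variable (hp5 : 5 ≤ p) (hD : ¬ p ∣ Nat.card D) [Finite D]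
include hp5 hD

theorem quad_conj {d : D} (hd : d ∉ scal D E p) :
    ∀ n m : D, n * d * n⁻¹ ∈ Subgroup.centralizer ({d} : Set D) → n * d * n⁻¹ ≠ d →
      m * d * m⁻¹ ∈ Subgroup.centralizer ({d} : Set D) → m * d * m⁻¹ ≠ d →
      n * d * n⁻¹ = m * d * m⁻¹ := by
  haveI := plane_nontrivial p hcard
  obtain ⟨v, hv⟩ := exists_cyclic_vector p hcard hd
  obtain ⟨⟨s, t⟩, hst⟩ := hv.2 (d • d • v)
  simp only at hst
  have hall : ∀ e : E, d • d • e = s • e + t • d • e := by
    intro e
    obtain ⟨⟨r, r'⟩, rfl⟩ := hv.2 e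
    simp only [smul_add, smul_scalar, ← hst]
    generalize d • v = w
    module
  have h2 : (2 : ZMod p) ≠ 0 := by
    intro h
    have := (ZMod.natCast_eq_zero_iff 2 p).1 (by exact_mod_cast h) |> Nat.le_of_dvd two_pos
    omega
  have hdisc : t * t + 4 * s ≠ 0 := by
    intro h0
    set c : ZMod p := 2⁻¹ * t with hc
    have hct : c + c = t := by rw [hc, ← two_mul, ← mul_assoc, mul_inv_cancel₀ h2, one_mul]
    have hs : s = -(c * c) := by
      have : (4 : ZMod p) * (s + c * c) = 0 := by rw [← hct] at h0; linear_combination h0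
      have h4 : (4 : ZMod p) ≠ 0 := by
        rw [show (4 : ZMod p) = 2 * 2 by norm_num]; exact mul_ne_zero h2 h2
      linear_combination (mul_eq_zero.1 this).resolve_left h4
    have hpow : ∀ (n : ℕ) (e : E),
        d ^ (n + 1) • e = c ^ (n + 1) • e + ((n + 1 : ℕ) * c ^ n) • (d • e - c • e) := by
      intro n
      induction n with
      | zero => intro e; simp
      | succ n ih =>
        intro e
        rw [pow_succ', mul_smul, ih, smul_add, smul_scalar, smul_scalar, smul_sub, smul_scalar,
          hall, ← hct, hs]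
        push_cast
        generalize d • e = w
        module
    have hdp : d ^ p ∈ scal D E p := by
      refine mem_scal_of_smul p (a := c ^ p) fun e => ?_
      obtain ⟨q, hq⟩ : ∃ q, p = q + 1 := ⟨p - 1, by omega⟩
      have := hpow q e
      rw [← hq] at this
      rw [this, ZMod.natCast_self, zero_mul, zero_smul, add_zero]
    have hcop : Nat.Coprime p (orderOf d) :=
      (Fact.out : p.Prime).coprime_iff_not_dvd.2 fun h => hD (h.trans (orderOf_dvd_natCard d))
    obtain ⟨m, hm⟩ := exists_pow_eq_self_of_coprime hcop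
    exact hd (hm ▸ pow_mem hdp m)
  have key : ∀ n : D, n * d * n⁻¹ ∈ Subgroup.centralizer ({d} : Set D) → n * d * n⁻¹ ≠ d →
      ∀ e : E, (n * d * n⁻¹) • e = t • e + (-1 : ZMod p) • d • e := by
    intro n hn hne
    set x := n * d * n⁻¹ with hx
    obtain ⟨a, b, hab⟩ := comm_form p hcard hd (Subgroup.mem_centralizer_singleton_iff.1 hn)
    have hb : b ≠ 0 := by
      rintro rfl
      exact conj_not_mem_scal p hd n
        (mem_scal_of_smul p (a := a) fun e => by rw [hab, zero_smul, add_zero])
    have hxx : x • x • v = s • v + t • x • v := by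
      simp only [hx, mul_smul, inv_smul_smul]
      rw [hall, smul_add, smul_scalar, smul_scalar, smul_inv_smul]
    have hL : (a * a + b * b * s) • v + (2 * a * b + b * b * t) • d • v =
        (s + t * a) • v + (t * b) • d • v := by
      have h1 : x • x • v = (a * a + b * b * s) • v + (2 * a * b + b * b * t) • d • v := by
        rw [hab, hab v]
        simp only [smul_add, smul_scalar, hall]
        generalize d • v = w
        module
      rw [← h1, hxx, hab v]
      generalize d • v = w
      module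
    have hinj := hv.1 (a₁ := (a * a + b * b * s, 2 * a * b + b * b * t)) (a₂ := (s + t * a, t * b)) hL
    rw [Prod.mk.injEq] at hinj
    have h2a : 2 * a + b * t - t = 0 := (mul_eq_zero.1
      (by linear_combination hinj.2 : b * (2 * a + b * t - t) = 0)).resolve_left hb
    have hbb : (b * b - 1) * (t * t + 4 * s) = 0 := by
      linear_combination 4 * hinj.1 - (2 * a - b * t - t) * h2a
    have hb1 : (b - 1) * (b + 1) = 0 := by
      linear_combination (mul_eq_zero.1 hbb).resolve_right hdisc
    rcases mul_eq_zero.1 hb1 with h | h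
    · exfalso
      have hb' : b = 1 := sub_eq_zero.1 h
      subst hb'
      have ha : a = 0 := (mul_eq_zero.1 (by linear_combination h2a : (2 : ZMod p) * a = 0)).resolve_left h2
      subst ha
      exact hne (eq_of_smul_eq_smul fun e : E => by rw [hab, zero_smul, one_smul, zero_add])
    · have hb' : b = -1 := eq_neg_of_add_eq_zero_left h
      subst hb'
      have ha : a = t := by
        have : (2 : ZMod p) * (a - t) = 0 := by linear_combination h2a
        exact sub_eq_zero.1 ((mul_eq_zero.1 this).resolve_left h2)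
      subst ha
      exact hab
  intro n m hn hn' hm hm'
  exact eq_of_smul_eq_smul fun e : E => by rw [key n hn hn', key m hm hm']

theorem card_stab {d : D} (hd : d ∉ scal D E p) {S : Subgroup D}
    (hS : Subgroup.centralizer ({d} : Set D) ≤ S)
    (hSn : ∀ n ∈ S, n * d * n⁻¹ ∈ Subgroup.centralizer ({d} : Set D)) :
    ∃ e, (e = 1 ∨ e = 2) ∧ Nat.card S = e * Nat.card (Subgroup.centralizer ({d} : Set D)) := by
  classical
  haveI := Fintype.ofFinite D
  set A := Subgroup.centralizer ({d} : Set D) with hA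
  obtain ⟨e, he⟩ : Nat.card A ∣ Nat.card S := Subgroup.card_dvd_of_le hS
  refine ⟨e, ?_, by rw [he, mul_comm]⟩
  have hle : Nat.card S ≤ Nat.card A * 2 := by
    rw [Nat.card_eq_fintype_card]
    refine (Finset.card_le_mul_card_image (f := fun n : S => (n : D) * d * (n : D)⁻¹) Finset.univ
      (Nat.card A) (fun x hx => ?_)).trans (Nat.mul_le_mul_left _ ?_)
    · obtain ⟨n0, -, rfl⟩ := Finset.mem_image.1 hx
      rw [← Fintype.card_subtype, ← Nat.card_eq_fintype_card]
      refine Nat.card_le_card_of_injective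
        (fun n => ⟨(n0 : D)⁻¹ * n.1, Subgroup.mem_centralizer_singleton_iff.2 ?_⟩) ?_
      · have h := n.2
        calc (n0 : D)⁻¹ * n.1 * d = (n0 : D)⁻¹ * ((n.1 : D) * d * (n.1 : D)⁻¹) * n.1 := by group
          _ = (n0 : D)⁻¹ * ((n0 : D) * d * (n0 : D)⁻¹) * n.1 := by rw [h]
          _ = d * ((n0 : D)⁻¹ * n.1) := by group
      · intro a b h
        exact Subtype.ext (Subtype.ext (mul_left_cancel (congrArg Subtype.val h)))
    · by_cases hex : ∃ n : S, (n : D) * d * (n : D)⁻¹ ≠ d
      · obtain ⟨n, hn⟩ := hex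
        refine (Finset.card_le_card (t := {d, (n : D) * d * (n : D)⁻¹}) ?_).trans Finset.card_le_two
        intro x hx
        obtain ⟨m, -, rfl⟩ := Finset.mem_image.1 hx
        simp only [Finset.mem_insert, Finset.mem_singleton]
        by_cases hm : (m : D) * d * (m : D)⁻¹ = d
        · exact Or.inl hm
        · exact Or.inr (quad_conj p hcard hp5 hD hd m n (hSn m m.2) hm (hSn n n.2) hn)
      · push Not at hex
        refine (Finset.card_le_card (t := {d}) ?_).trans (by simp)
        intro x hx
        obtain ⟨m, -, rfl⟩ := Finset.mem_image.1 hx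
        simp [hex m]
  have he2 : e ≤ 2 := Nat.le_of_mul_le_mul_left (he ▸ hle) Nat.card_pos
  have he0 : e ≠ 0 := by rintro rfl; exact (Nat.card_pos (α := S)).ne' (by simpa using he)
  omega

/-- The class number of `D`, with `|D| = z h` for `z` the number of scalars in `D`. -/
theorem class_number_cases {h : ℕ} (hh : Nat.card D = Nat.card (scal D E p) * h) (h2 : 2 ≤ h) :
    Nat.card (ConjClasses D) = Nat.card D ∨
      4 * Nat.card (ConjClasses D) = Nat.card D + 6 * Nat.card (scal D E p) ∨
      (h = 12 ∧ 2 * Nat.card (ConjClasses D) = 7 * Nat.card (scal D E p)) ∨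
      (h = 24 ∧ 2 * Nat.card (ConjClasses D) = 8 * Nat.card (scal D E p)) ∨
      (h = 60 ∧ 2 * Nat.card (ConjClasses D) = 9 * Nat.card (scal D E p)) := by
  classical
  haveI := Fintype.ofFinite D
  set Z := scal D E p with hZ
  set z := Nat.card Z with hz
  set k := Nat.card (ConjClasses D) with hk
  have hz0 : 0 < z := Nat.card_pos
  let T := {A : Subgroup D // ∃ d ∉ Z, Subgroup.centralizer ({d} : Set D) = A}
  have hmap : ∀ (g d : D), (Subgroup.centralizer ({d} : Set D)).map (MulAut.conj g).toMonoidHom =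
      Subgroup.centralizer ({g * d * g⁻¹} : Set D) := by
    intro g d
    ext x
    rw [Subgroup.mem_map_equiv, Subgroup.mem_centralizer_singleton_iff,
      Subgroup.mem_centralizer_singleton_iff, MulAut.conj_symm_apply]
    constructor <;> intro h
    · calc x * (g * d * g⁻¹) = g * (g⁻¹ * x * g * d) * g⁻¹ := by group
        _ = g * (d * (g⁻¹ * x * g)) * g⁻¹ := by rw [h]
        _ = g * d * g⁻¹ * x := by group
    · calc g⁻¹ * x * g * d = g⁻¹ * (x * (g * d * g⁻¹)) * g := by group
        _ = g⁻¹ * (g * d * g⁻¹ * x) * g := by rw [h]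
        _ = d * (g⁻¹ * x * g) := by group
  letI actT : MulAction D T :=
    { smul := fun g A => ⟨A.1.map (MulAut.conj g).toMonoidHom, by
        obtain ⟨d, hd, hA⟩ := A.2
        exact ⟨g * d * g⁻¹, conj_not_mem_scal p hd g, by rw [← hA, hmap]⟩⟩
      one_smul := fun A => Subtype.ext (by
        show A.1.map (MulAut.conj (1 : D)).toMonoidHom = A.1
        rw [map_one]
        exact Subgroup.map_id A.1)
      mul_smul := fun g g' A => Subtype.ext (by
        show A.1.map (MulAut.conj (g * g')).toMonoidHom =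
          (A.1.map (MulAut.conj g').toMonoidHom).map (MulAut.conj g).toMonoidHom
        rw [Subgroup.map_map, map_mul]
        rfl) }
  haveI : Fintype T := Fintype.ofFinite T
  let c : T → ℕ := fun A => Nat.card A.1
  have hcinv : ∀ (g : D) (A : T), c (g • A) = c A := fun g A =>
    (Nat.card_congr (A.1.equivMapOfInjective _ (MulAut.conj g).injective).toEquiv).symm
  -- the partition
  have hnc : ∀ A : T, Nat.card {x : D // x ∈ A.1 ∧ x ∉ Z} = c A - z := by
    intro A
    obtain ⟨d, hd, hA⟩ := A.2
    have hle : Z ≤ A.1 := hA ▸ scal_le_centralizer p _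
    have e1 : Nat.card {x : D // x ∈ A.1 ∧ x ∉ Z} = ((A.1 : Set D) \ (Z : Set D)).ncard := rfl
    rw [e1, Set.ncard_sdiff hle]
    rfl
  let part : {x : D // x ∉ Z} ≃ Σ A : T, {x : D // x ∈ A.1 ∧ x ∉ Z} :=
    { toFun := fun x => ⟨⟨_, x.1, x.2, rfl⟩, x.1, Subgroup.mem_centralizer_singleton_iff.2 rfl, x.2⟩
      invFun := fun y => ⟨y.2.1, y.2.2.2⟩
      left_inv := fun x => rfl
      right_inv := by
        rintro ⟨A, x, hxA, hxZ⟩
        obtain ⟨d, hd, hA⟩ := A.2
        refine Sigma.subtype_ext (Subtype.ext ?_) rfl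
        rw [← hA] at hxA
        exact (centralizer_eq p hcard hd hxA hxZ).trans hA }
  have hZcard : Fintype.card {x : D // x ∈ Z} = z := (Nat.card_eq_fintype_card).symm
  have eq1 : Nat.card D = z + ∑ A : T, (c A - z) := by
    have h1 := Fintype.sum_subtype_add_sum_subtype (fun x : D => x ∈ Z) (fun _ => 1)
    simp only [Finset.sum_const, Finset.card_univ, smul_eq_mul, mul_one] at h1
    rw [Nat.card_eq_fintype_card, ← h1, hZcard, ← Nat.card_eq_fintype_card,
      Nat.card_congr part, Nat.card_sigma]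
    simp only [hnc]
  have eq2 : k * Nat.card D = z * Nat.card D + ∑ A : T, (c A - z) * c A := by
    rw [hk, ← card_comm_eq_card_conjClasses_mul_card,
      Nat.card_congr (Equiv.subtypeProdEquivSigmaSubtype fun a b : D => Commute a b), Nat.card_sigma,
      ← Fintype.sum_subtype_add_sum_subtype (fun x : D => x ∈ Z)]
    congr 1
    · rw [← hZcard]
      refine (Finset.sum_congr rfl fun x _ => ?_).trans
        (by rw [Finset.sum_const, Finset.card_univ, smul_eq_mul])
      exact Nat.card_congr (Equiv.subtypeUnivEquiv fun y =>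
        (Subgroup.mem_centralizer_iff.1 (scal_le_centralizer p Set.univ x.2) y trivial).symm)
    · rw [← part.symm.sum_comp, Fintype.sum_sigma]
      refine Finset.sum_congr rfl fun A _ => ?_
      obtain ⟨d, hd, hA⟩ := A.2
      rw [← hnc A, Nat.card_eq_fintype_card, ← Finset.card_univ, ← smul_eq_mul,
        ← Finset.sum_const]
      refine Finset.sum_congr rfl fun x _ => ?_
      have hx : x.1 ∈ Subgroup.centralizer ({d} : Set D) := (SetLike.ext_iff.1 hA _).2 x.2.1
      have hAe : A.1 = Subgroup.centralizer ({x.1} : Set D) :=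
        hA.symm.trans (centralizer_eq p hcard hd hx x.2.2).symm
      show Nat.card {b : D // Commute x.1 b} = Nat.card A.1
      exact Nat.card_congr (Equiv.subtypeEquivRight fun b =>
        ⟨fun h => (SetLike.ext_iff.1 hAe b).2 (Subgroup.mem_centralizer_singleton_iff.2 h.symm),
          fun h => (Subgroup.mem_centralizer_singleton_iff.1 ((SetLike.ext_iff.1 hAe b).1 h)).symm⟩)
  -- orbits
  let Q := MulAction.orbitRel.Quotient D T
  haveI : Fintype Q := Fintype.ofFinite Q
  let n : Q → ℕ := fun ω => Nat.card (MulAction.orbit D ω.out)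
  have horb : ∀ φ : ℕ → ℕ, ∑ A : T, φ (c A) = ∑ ω : Q, n ω * φ (c ω.out) := by
    intro φ
    rw [← (MulAction.selfEquivSigmaOrbits D T).symm.sum_comp, Fintype.sum_sigma]
    refine Finset.sum_congr rfl fun ω _ => ?_
    refine (Finset.sum_congr rfl (g := fun _ => φ (c ω.out)) fun y _ => ?_).trans
      (by rw [Finset.sum_const, Finset.card_univ, smul_eq_mul, ← Nat.card_eq_fintype_card])
    obtain ⟨g, hg⟩ := y.2
    show φ (c y.1) = φ (c ω.out)
    rw [← hcinv g ω.out]
    exact congrArg (fun A => φ (c A)) hg.symm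
  have hωe : ∀ ω : Q, ∃ f e m, f * e = 2 ∧ c ω.out = z * m ∧ 2 ≤ m ∧ n ω * e * m = h := by
    intro ω
    obtain ⟨d, hd, hA⟩ := ω.out.2
    set A := ω.out with hAdef
    have hlt : Z < A.1 := by
      rw [← hA]
      refine lt_of_le_of_ne (scal_le_centralizer p _) fun h => hd ?_
      exact h ▸ Subgroup.mem_centralizer_singleton_iff.2 rfl
    obtain ⟨m, hm⟩ : z ∣ c A := Subgroup.card_dvd_of_le hlt.le
    have hm2 : 2 ≤ m := by
      by_contra hm1
      have : c A ≤ z := by rw [hm]; nlinarith
      exact hlt.ne (Subgroup.eq_of_le_of_card_ge hlt.le this)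
    have hst : ∀ g : D, g ∈ MulAction.stabilizer D A ↔
        Subgroup.centralizer ({g * d * g⁻¹} : Set D) = Subgroup.centralizer ({d} : Set D) := by
      intro g
      rw [MulAction.mem_stabilizer_iff, ← hmap, hA]
      exact Subtype.ext_iff
    have hle : Subgroup.centralizer ({d} : Set D) ≤ MulAction.stabilizer D A := fun g hg => by
      rw [hst, Subgroup.mem_centralizer_singleton_iff.1 hg, mul_inv_cancel_right]
    have hmem : ∀ g ∈ MulAction.stabilizer D A,
        g * d * g⁻¹ ∈ Subgroup.centralizer ({d} : Set D) := fun g hg =>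
      (hst g).1 hg ▸ Subgroup.mem_centralizer_singleton_iff.2 rfl
    obtain ⟨e, he, hcs⟩ := card_stab p hcard hp5 hD hd hle hmem
    refine ⟨2 / e, e, m, by rcases he with rfl | rfl <;> rfl, hm, hm2, ?_⟩
    have h1 := MulAction.card_orbit_mul_card_stabilizer_eq_card_group D A
    simp only [← Nat.card_eq_fintype_card] at h1
    rw [hcs, hA, hh] at h1
    refine Nat.eq_of_mul_eq_mul_left hz0 ?_
    rw [← h1]
    show z * (n ω * e * m) = n ω * (e * c A)
    rw [hm]; ring
  choose f e m hfe hc hm2 hne using hωe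
  let M : Multiset ℕ := (Finset.univ : Finset Q).val.bind fun ω => Multiset.replicate (f ω) (m ω)
  have hsum : ∀ {β : Type} [AddCommMonoid β] (g : ℕ → β),
      (M.map g).sum = ∑ ω : Q, f ω • g (m ω) := by
    intro β _ g
    simp only [M, Multiset.map_bind, Multiset.sum_bind, Multiset.map_replicate,
      Multiset.sum_replicate]
    rfl
  have hnm : ∀ ω, n ω * m ω * 2 = h * f ω := fun ω => by rw [← hfe ω, ← hne ω]; ring
  have hM : ∀ x ∈ M, 2 ≤ x ∧ x ≤ h := by
    intro x hx
    obtain ⟨ω, -, hω⟩ := Multiset.mem_bind.1 hx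
    obtain rfl := Multiset.eq_of_mem_replicate hω
    exact ⟨hm2 ω, Nat.le_of_dvd (by omega) ⟨n ω * e ω, by rw [← hne ω]; ring⟩⟩
  have hs1 : h = 1 + ∑ ω : Q, n ω * (m ω - 1) := by
    refine Nat.eq_of_mul_eq_mul_left hz0 ?_
    rw [← hh, eq1, horb (fun x => x - z), Nat.mul_add, mul_one, Finset.mul_sum]
    congr 1
    refine Finset.sum_congr rfl fun ω _ => ?_
    rw [hc ω, mul_left_comm z, Nat.mul_sub z, mul_one]
  have heq : (M.map fun x : ℕ => (1 : ℚ) - 1 / x).sum = 2 - 2 / h := by
    rw [hsum]
    have hh0 : (h : ℚ) ≠ 0 := by exact_mod_cast (by omega : h ≠ 0)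
    refine mul_left_cancel₀ hh0 ?_
    rw [Finset.mul_sum, show (h : ℚ) * (2 - 2 / h) = 2 * ((h : ℚ) - 1) by field_simp]
    have e1 : (h : ℚ) - 1 = ((∑ ω : Q, n ω * (m ω - 1) : ℕ) : ℚ) := by
      have h' := congrArg (Nat.cast : ℕ → ℚ) hs1
      rw [Nat.cast_add, Nat.cast_one] at h'
      linarith
    rw [e1, Nat.cast_sum, Finset.mul_sum]
    refine Finset.sum_congr rfl fun ω _ => ?_
    have hm0 : (m ω : ℚ) ≠ 0 := by have := hm2 ω; exact_mod_cast (by omega : m ω ≠ 0)
    have e2 : (n ω : ℚ) * m ω * 2 = h * f ω := by exact_mod_cast hnm ω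
    rw [Nat.cast_mul, Nat.cast_sub (by have := hm2 ω; omega), Nat.cast_one, nsmul_eq_mul]
    field_simp
    linear_combination (-((m ω : ℚ) - 1)) * e2
  have hk2 : 2 * k = 2 * z + z * (M.map fun x => x - 1).sum := by
    rw [hsum]
    have h0 : 0 < z * h := Nat.mul_pos hz0 (by omega)
    refine Nat.eq_of_mul_eq_mul_left h0 ?_
    rw [show z * h * (2 * k) = 2 * (k * Nat.card D) by rw [hh]; ring, eq2,
      horb (fun x => (x - z) * x), hh, mul_add (z * h), mul_add 2, Finset.mul_sum, Finset.mul_sum,
      Finset.mul_sum]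
    congr 1
    · ring
    · refine Finset.sum_congr rfl fun ω _ => ?_
      rw [hc ω, smul_eq_mul, show z * m ω - z = z * (m ω - 1) by rw [Nat.mul_sub, mul_one]]
      linear_combination (z * z * (m ω - 1)) * hnm ω
  obtain ⟨σ, hσ⟩ : ∃ σ, σ = (M.map fun x => x - 1).sum := ⟨_, rfl⟩
  rw [← hσ] at hk2
  rcases classEquation_cases h2 M hM heq with hS | hS | ⟨h', hS⟩ | ⟨h', hS⟩ | ⟨h', hS⟩ <;>
    rw [← hσ] at hS
  · refine Or.inl ?_
    have hw : z * σ + 2 * z = 2 * (z * h) := by rw [mul_comm 2 z, ← mul_add, hS]; ring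
    omega
  · refine Or.inr (Or.inl ?_)
    have hw : 2 * (z * σ) = z * h + 2 * z := by rw [← mul_left_comm, hS]; ring
    omega
  · exact Or.inr (Or.inr (Or.inl ⟨h', by rw [hS] at hk2; omega⟩))
  · exact Or.inr (Or.inr (Or.inr (Or.inl ⟨h', by rw [hS] at hk2; omega⟩)))
  · exact Or.inr (Or.inr (Or.inr (Or.inr ⟨h', by rw [hS] at hk2; omega⟩)))

end Plane

end CfsgLib.KpRegular
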