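import Mathlib

/-!
# The class equation of a finite group of operators on a plane: arithmetic
-/

set_option autoImplicit false
set_option synthInstance.maxSize 20000
set_option maxSynthPendingDepth 5

namespace CfsgLib.KpRegular

/-- Solutions of `Σ (1 - 1/m) = 2 - 2/h` in at most three terms. -/
theorem classEquation_cases {h : ℕ} (h2 : 2 ≤ h) (M : Multiset ℕ) (hM : ∀ m ∈ M, 2 ≤ m ∧ m ≤ h)
    (heq : (M.map fun m : ℕ => (1 : ℚ) - 1 / m).sum = 2 - 2 / h) :
    (M.map fun m => m - 1).sum + 2 = 2 * h ∨ 2 * (M.map fun m => m - 1).sum = h + 2 ∨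
      (h = 12 ∧ (M.map fun m => m - 1).sum = 5) ∨ (h = 24 ∧ (M.map fun m => m - 1).sum = 6) ∨
      (h = 60 ∧ (M.map fun m => m - 1).sum = 7) := by
  have hhq : (2 : ℚ) ≤ h := by exact_mod_cast h2
  have hh0 : (0 : ℚ) < h := by linarith
  have h2h : (2 : ℚ) / h ≤ 1 := by rw [div_le_one hh0]; exact hhq
  have hlow : ∀ m ∈ M, (1 : ℚ) / 2 ≤ 1 - 1 / m := by
    intro m hm
    have : (2 : ℚ) ≤ m := by exact_mod_cast (hM m hm).1
    have := one_div_le_one_div_of_le (by norm_num : (0 : ℚ) < 2) this
    linarith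
  have hcard : Multiset.card M ≤ 3 := by
    have := Multiset.card_nsmul_le_sum (s := M.map fun m : ℕ => (1 : ℚ) - 1 / m) (a := 1 / 2)
      (fun x hx => by
        obtain ⟨m, hm, rfl⟩ := Multiset.mem_map.1 hx
        exact hlow m hm)
    rw [Multiset.card_map, heq, nsmul_eq_mul] at this
    have : (0 : ℚ) < 2 / h := by positivity
    by_contra hc
    have : (4 : ℚ) ≤ Multiset.card M := by exact_mod_cast (by omega : 4 ≤ Multiset.card M)
    nlinarith
  rcases (by omega : Multiset.card M = 0 ∨ Multiset.card M = 1 ∨ Multiset.card M = 2 ∨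
    Multiset.card M = 3) with hc | hc | hc | hc
  · rw [Multiset.card_eq_zero] at hc
    subst hc
    simp at heq
    linarith
  · obtain ⟨a, rfl⟩ := Multiset.card_eq_one.1 hc
    simp only [Multiset.map_singleton, Multiset.sum_singleton] at heq
    have : (2 : ℚ) ≤ a := by exact_mod_cast (hM a (by simp)).1
    have : (0 : ℚ) < 1 / a := by positivity
    linarith
  · obtain ⟨a, b, rfl⟩ := Multiset.card_eq_two.1 hc
    obtain ⟨ha2, hah⟩ := hM a (by simp)
    obtain ⟨hb2, hbh⟩ := hM b (by simp)
    left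
    simp only [Multiset.insert_eq_cons, Multiset.map_cons, Multiset.sum_cons,
      Multiset.map_singleton, Multiset.sum_singleton] at heq ⊢
    have ha0 : (0 : ℚ) < a := by exact_mod_cast (by omega : 0 < a)
    have hb0 : (0 : ℚ) < b := by exact_mod_cast (by omega : 0 < b)
    have h1 : (1 : ℚ) / h ≤ 1 / a := one_div_le_one_div_of_le ha0 (by exact_mod_cast hah)
    have h3 : (1 : ℚ) / h ≤ 1 / b := one_div_le_one_div_of_le hb0 (by exact_mod_cast hbh)
    have hs : (2 : ℚ) / h = 1 / h + 1 / h := by ring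
    have ea : (1 : ℚ) / a = 1 / h := by linarith
    have eb : (1 : ℚ) / b = 1 / h := by linarith
    rw [one_div, one_div, inv_inj] at ea eb
    have ea' : a = h := by exact_mod_cast ea
    have eb' : b = h := by exact_mod_cast eb
    omega
  · obtain ⟨a, b, c, rfl⟩ := Multiset.card_eq_three.1 hc
    obtain ⟨ha2, hah⟩ := hM a (by simp)
    obtain ⟨hb2, hbh⟩ := hM b (by simp)
    obtain ⟨hc2, hch⟩ := hM c (by simp)
    simp only [Multiset.insert_eq_cons, Multiset.map_cons, Multiset.sum_cons,
      Multiset.map_singleton, Multiset.sum_singleton] at heq ⊢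
    right
    have key : ∀ x y w : ℕ, 2 ≤ x → x ≤ y → y ≤ w →
        (1 : ℚ) / x + 1 / y + 1 / w = 1 + 2 / h →
        2 * (x - 1 + (y - 1 + (w - 1))) = h + 2 ∨ (h = 12 ∧ x - 1 + (y - 1 + (w - 1)) = 5) ∨
          (h = 24 ∧ x - 1 + (y - 1 + (w - 1)) = 6) ∨ (h = 60 ∧ x - 1 + (y - 1 + (w - 1)) = 7) := by
      intro x y w hx hxy hyw e
      have hxq : (2 : ℚ) ≤ x := by exact_mod_cast hx
      have hpos : (0 : ℚ) < 2 / h := by positivity
      have d1 : (1 : ℚ) / y ≤ 1 / x :=
        one_div_le_one_div_of_le (by linarith) (by exact_mod_cast hxy)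
      have hy0 : (0 : ℚ) < y := by exact_mod_cast (by omega : 0 < y)
      have d2 : (1 : ℚ) / w ≤ 1 / y := one_div_le_one_div_of_le hy0 (by exact_mod_cast hyw)
      have hx3 : x ≤ 2 := by
        by_contra hn
        have : (1 : ℚ) / x ≤ 1 / 3 :=
          one_div_le_one_div_of_le (by norm_num) (by exact_mod_cast (by omega : 3 ≤ x))
        linarith
      obtain rfl : x = 2 := le_antisymm hx3 hx
      have hy4 : y ≤ 3 := by
        by_contra hn
        have : (1 : ℚ) / y ≤ 1 / 4 :=
          one_div_le_one_div_of_le (by norm_num) (by exact_mod_cast (by omega : 4 ≤ y))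
        push_cast at e
        linarith
      have hw0 : (0 : ℚ) < w := by exact_mod_cast (by omega : 0 < w)
      rcases (by omega : y = 2 ∨ y = 3) with rfl | rfl
      · norm_num at e
        have : (h : ℚ) = 2 * w := by field_simp at e; linarith
        have : h = 2 * w := by exact_mod_cast this
        omega
      · have hw6 : w < 6 := by
          by_contra hn
          have : (1 : ℚ) / w ≤ 1 / 6 :=
            one_div_le_one_div_of_le (by norm_num) (by exact_mod_cast (by omega : 6 ≤ w))
          push_cast at e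
          linarith
        rcases (by omega : w = 3 ∨ w = 4 ∨ w = 5) with rfl | rfl | rfl
        all_goals
          norm_num at e
          field_simp at e
        · have : (h : ℚ) = 12 := by linarith
          have : h = 12 := by exact_mod_cast this
          omega
        · have : (h : ℚ) = 24 := by linarith
          have : h = 24 := by exact_mod_cast this
          omega
        · have : (h : ℚ) = 60 := by linarith
          have : h = 60 := by exact_mod_cast this
          omega
    have e : (1 : ℚ) / a + 1 / b + 1 / c = 1 + 2 / h := by linarith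
    rcases le_total a b with h1 | h1 <;> rcases le_total b c with h2 | h2 <;>
      rcases le_total a c with h3 | h3
    all_goals first
      | (have := key a b c ha2 h1 h2 (by linarith); omega)
      | (have := key a c b ha2 h3 h2 (by linarith); omega)
      | (have := key b a c hb2 h1 h3 (by linarith); omega)
      | (have := key b c a hb2 h2 h3 (by linarith); omega)
      | (have := key c a b hc2 h3 h1 (by linarith); omega)
      | (have := key c b a hc2 h2 h1 (by linarith); omega)

/-- The finitely many exceptional parameters. -/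
theorem exceptional_params (p z : ℕ) (hp : p.Prime) (hp5 : 5 ≤ p) (hz : z ∣ p - 1) {h c : ℕ}
    (hhc : (h = 12 ∧ c = 7) ∨ (h = 24 ∧ c = 8) ∨ (h = 60 ∧ c = 9)) (hd : p ^ 2 - 1 ∣ z * h) :
    2 * p ≤ c * z ∨ (h = 24 ∧ z = 1 ∧ p = 5) ∨ (h = 60 ∧ z = 2 ∧ p = 11) := by
  have hzle : z ≤ p - 1 := Nat.le_of_dvd (by omega) hz
  have hz0 : 0 < z := Nat.pos_of_dvd_of_pos hz (by omega)
  have hle : p ^ 2 - 1 ≤ z * h := Nat.le_of_dvd (Nat.mul_pos hz0 (by omega)) hd
  have hp60 : p < 60 := by
    by_contra hn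
    have : z * h ≤ (p - 1) * 60 := Nat.mul_le_mul hzle (by omega)
    have : (p - 1) * 60 < p ^ 2 - 1 := by
      obtain ⟨q, rfl⟩ : ∃ q, p = q + 60 := ⟨p - 60, by omega⟩
      ring_nf
      omega
    omega
  have all : ∀ p < 60, ∀ z < 60, 5 ≤ p → z ∣ p - 1 → p.Prime →
      (p ^ 2 - 1 ∣ z * 12 → 2 * p ≤ 7 * z) ∧
        (p ^ 2 - 1 ∣ z * 24 → 2 * p ≤ 8 * z ∨ (z = 1 ∧ p = 5)) ∧
        (p ^ 2 - 1 ∣ z * 60 → 2 * p ≤ 9 * z ∨ (z = 2 ∧ p = 11)) := by
    decide +kernel
  obtain ⟨a1, a2, a3⟩ := all p hp60 z (by omega) hp5 hz hp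
  rcases hhc with ⟨rfl, rfl⟩ | ⟨rfl, rfl⟩ | ⟨rfl, rfl⟩
  · exact Or.inl (a1 hd)
  · rcases a2 hd with h | h
    · exact Or.inl h
    · exact Or.inr (Or.inl ⟨rfl, h⟩)
  · rcases a3 hd with h | h
    · exact Or.inl h
    · exact Or.inr (Or.inr ⟨rfl, h⟩)

end CfsgLib.KpRegular
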