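import Cfsg.Agent.Lib.FGStruct.PrimitivePart

/-!
The primitive part of `p ^ n - 1` seldom divides `n (n + 1) (2 n + 1)`.
-/

set_option autoImplicit false

namespace CfsgLib.KpRegular

open CfsgLib.Zsigmondy Polynomial

theorem prod_cyclotomicValue {p n : ℕ} (hp : 0 < p) (hn : 0 < n) :
    ∏ d ∈ n.divisors, cyclotomicValue p d = p ^ n - 1 := by
  have h := congrArg (fun f : ℤ[X] => (f.eval (p : ℤ)).natAbs) (prod_cyclotomic_eq_X_pow_sub_one hn ℤ)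
  simp only [eval_prod, eval_sub, eval_pow, eval_X, eval_one] at h
  rw [← Int.natAbsHom_apply, map_prod] at h
  refine h.trans ?_
  rw [show ((p : ℤ) ^ n - 1) = ((p ^ n - 1 : ℕ) : ℤ) by
    rw [Nat.cast_sub (Nat.one_le_pow _ _ hp)]; push_cast; rfl, Int.natAbs_natCast]

/-- The computable consequence: `p ^ n - 1` divides `K` times the product over proper divisors. -/
theorem pow_sub_one_dvd {p n K : ℕ} (hp : 0 < p) (hn : 0 < n) (h : cyclotomicValue p n ∣ K) :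
    p ^ n - 1 ∣ K * ∏ d ∈ n.properDivisors, (p ^ d - 1) := by
  rw [← prod_cyclotomicValue hp hn, ← Nat.cons_self_properDivisors hn.ne', Finset.prod_cons]
  exact mul_dvd_mul h (Finset.prod_dvd_prod_of_dvd _ _ fun d _ => cyclotomicValue_dvd_pow_sub_one hp d)

theorem poly_lt_five_pow : ∀ t, 12 ≤ t → 8 * t ^ 2 * ((2 * t ^ 2 + 1) * (4 * t ^ 2 + 1)) < 5 ^ t := by
  intro t ht
  induction t, ht using Nat.le_induction with
  | base => norm_num
  | succ t ht ih =>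
    have h1 : (t + 1) ^ 2 * 12 ^ 2 ≤ t ^ 2 * 13 ^ 2 := by
      rw [← mul_pow, ← mul_pow]; exact Nat.pow_le_pow_left (by omega) 2
    have h2 : (2 * (t + 1) ^ 2 + 1) * 12 ^ 2 ≤ (2 * t ^ 2 + 1) * 13 ^ 2 := by omega
    have h3 : (4 * (t + 1) ^ 2 + 1) * 12 ^ 2 ≤ (4 * t ^ 2 + 1) * 13 ^ 2 := by omega
    have h4 := Nat.mul_le_mul h1 (Nat.mul_le_mul h2 h3)
    rw [pow_succ (5 : ℕ)]
    have h5' : 13 ^ 6 ≤ 5 * 12 ^ 6 := by norm_num
    have h6 : (t + 1) ^ 2 * ((2 * (t + 1) ^ 2 + 1) * (4 * (t + 1) ^ 2 + 1)) * 12 ^ 6 ≤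
        t ^ 2 * ((2 * t ^ 2 + 1) * (4 * t ^ 2 + 1)) * 13 ^ 6 :=
      le_trans (le_of_eq (by ring)) (h4.trans (le_of_eq (by ring)))
    have h7 := Nat.mul_le_mul_left (t ^ 2 * ((2 * t ^ 2 + 1) * (4 * t ^ 2 + 1))) h5'
    nlinarith

set_option maxRecDepth 10000 in
theorem small_totient : ∀ n ∈ List.range 243, n.totient ≤ 11 →
    5 ^ n.totient ≤ 4 * (n * ((n + 1) * (2 * n + 1))) → 3 ≤ n →
    n ∈ [3, 4, 5, 6, 7, 8, 9, 10, 12, 14, 15, 16, 18, 20, 24, 30] := by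
  decide +kernel

theorem candidates : ∀ n ∈ [3, 4, 5, 6, 7, 8, 9, 10, 12, 14, 15, 16, 18, 20, 24, 30], ∀ p ∈ List.range 47, 5 ≤ p →
    p ^ n.totient ≤ 4 * (n * ((n + 1) * (2 * n + 1))) →
    p ^ n - 1 ∣ n * ((n + 1) * (2 * n + 1)) * ∏ d ∈ n.properDivisors, (p ^ d - 1) →
    n = 6 ∧ (p = 5 ∨ p = 10 ∨ p = 17) := by
  decide +kernel

theorem small_primitive_part {p n : ℕ} (hp : p.Prime) (hp5 : 5 ≤ p) (hn : 3 ≤ n)
    (hdvd : CfsgLib.Zsigmondy.cyclotomicValue p n ∣ n * ((n + 1) * (2 * n + 1))) :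
    n = 6 ∧ (p = 5 ∨ p = 17) := by
  set K := n * ((n + 1) * (2 * n + 1)) with hK
  have hK0 : 0 < K := by positivity
  set t := n.totient with ht
  have ht0 : 0 < t := Nat.totient_pos.2 (by omega)
  have hpow : p ^ t ≤ 4 * K :=
    (FGStruct.PrimitivePart.pow_totient_le (by omega) (by omega)).trans
      (Nat.mul_le_mul_left 4 (Nat.le_of_dvd hK0 hdvd))
  have h5 : 5 ^ t ≤ 4 * K := le_trans (Nat.pow_le_pow_left hp5 _) hpow
  have hsq : n ≤ 2 * t ^ 2 := (FGStruct.PrimitivePart.le_two_mul_totient_sq n).1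
  have ht11 : t ≤ 11 := by
    by_contra hlt
    push Not at hlt
    have ha : n + 1 ≤ 2 * t ^ 2 + 1 := by omega
    have hb : 2 * n + 1 ≤ 4 * t ^ 2 + 1 := by omega
    have h1 : 4 * K ≤ 8 * t ^ 2 * ((2 * t ^ 2 + 1) * (4 * t ^ 2 + 1)) :=
      le_trans (Nat.mul_le_mul_left 4 (Nat.mul_le_mul hsq (Nat.mul_le_mul ha hb))) (le_of_eq (by ring))
    have := poly_lt_five_pow t hlt
    omega
  have hn243 : n < 243 := by
    have : t ^ 2 ≤ 11 ^ 2 := Nat.pow_le_pow_left ht11 2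
    omega
  have hmem := small_totient n (List.mem_range.2 hn243) ht11 h5 hn
  have hp47 : p < 47 := by
    by_contra hlt
    push Not at hlt
    have h47 : 47 ^ t ≤ 4 * K := le_trans (Nat.pow_le_pow_left hlt _) hpow
    exact absurd h47 ((by decide +kernel : ∀ n ∈ [3, 4, 5, 6, 7, 8, 9, 10, 12, 14, 15, 16, 18, 20, 24, 30],
      ¬ 47 ^ n.totient ≤ 4 * (n * ((n + 1) * (2 * n + 1)))) n hmem)
  obtain ⟨h6, h⟩ := candidates n hmem p (List.mem_range.2 hp47) hp5 hpow (pow_sub_one_dvd (by omega) (by omega) hdvd)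
  refine ⟨h6, h.imp_right fun h => h.resolve_left ?_⟩
  rintro rfl
  norm_num at hp

end CfsgLib.KpRegular
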