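import Mathlib

/-!
# Counting `p`-regular classes
-/

set_option autoImplicit false

namespace CfsgLib.KpRegular

/-- The number of classes of `p`-regular elements. -/
noncomputable def pregCount (p : ℕ) (G : Type*) [Group G] : ℕ :=
  Nat.card {c : ConjClasses G // ∃ g : G, ConjClasses.mk g = c ∧ ¬ p ∣ orderOf g}

/-- A surjection of finite groups does not increase the number of classes. -/
theorem card_conjClasses_le_of_surjective {G H : Type*} [Group G] [Finite G] [Group H]
    (f : G →* H) (hf : Function.Surjective f) :
    Nat.card (ConjClasses H) ≤ Nat.card (ConjClasses G) :=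
  Nat.card_le_card_of_surjective _ (ConjClasses.map_surjective hf)

end CfsgLib.KpRegular
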