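import Cfsg.Agent.Lib.KpRegular.Basic
import Cfsg.Agent.Lib.Frobenius.ComplementSylow
import Cfsg.Agent.Lib.Char.Ito
import Cfsg.Agent.Lib.Char.Complete
import Cfsg.Agent.Lib.CharTools.Basic
import Cfsg.Agent.Lib.Linear.Transvection

/-!
The section `121 . SL(2,5)` with a kernel of order prime to eleven has eleven classes of eleven-regular elements.
-/

set_option autoImplicit false
set_option linter.style.haveILetI false

namespace CfsgLib.KpRegular

open Subgroup

/-- A `p`-regular element of an image lifts to a `p`-regular element. -/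
theorem exists_preg_lift {p : ℕ} [hp : Fact p.Prime] {G M : Type*} [Group G] [Finite G] [Group M]
    (f : G →* M) (hf : Function.Surjective f) (x : M) (hx : ¬ p ∣ orderOf x) :
    ∃ g : G, f g = x ∧ ¬ p ∣ orderOf g := by
  obtain ⟨g, rfl⟩ := hf x
  obtain ⟨k, o, ho, hgo⟩ := Nat.exists_eq_pow_mul_and_not_dvd (orderOf_pos g).ne' p hp.out.ne_one
  obtain ⟨j, hj⟩ := exists_pow_eq_self_of_coprime (x := f g) (n := p ^ k)
    ((hp.out.coprime_iff_not_dvd.2 hx).pow_left k)
  refine ⟨(g ^ p ^ k) ^ j, by rw [map_pow, map_pow, hj], fun h => ho ?_⟩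
  refine h.trans ((orderOf_pow_dvd j).trans ?_)
  rw [orderOf_dvd_iff_pow_eq_one, ← pow_mul, ← hgo, pow_orderOf_eq_one]

/-- The classes of an image of order prime to `p` are images of `p`-regular classes. -/
theorem preg_map_surjective {p : ℕ} [Fact p.Prime] {G M : Type*} [Group G] [Finite G] [Group M] [Finite M]
    (f : G →* M) (hf : Function.Surjective f) (hM : ¬ p ∣ Nat.card M) :
    Function.Surjective fun c : {c : ConjClasses G // ∃ g : G, ConjClasses.mk g = c ∧ ¬ p ∣ orderOf g} =>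
      ConjClasses.map f c.1 := by
  intro d
  obtain ⟨x, rfl⟩ := ConjClasses.exists_rep d
  obtain ⟨g, hg, hgp⟩ := exists_preg_lift (p := p) f hf x fun h => hM (h.trans (orderOf_dvd_natCard x))
  exact ⟨⟨ConjClasses.mk g, g, rfl, hgp⟩, congrArg ConjClasses.mk hg⟩

theorem card_conjClasses_le_preg {p : ℕ} [Fact p.Prime] {G M : Type*} [Group G] [Finite G] [Group M]
    [Finite M] (f : G →* M) (hf : Function.Surjective f) (hM : ¬ p ∣ Nat.card M) :
    Nat.card (ConjClasses M) ≤ pregCount p G :=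
  Nat.card_le_card_of_surjective _ (preg_map_surjective f hf hM)

/-- Two non-conjugate nontrivial regular elements of the kernel give two further classes. -/
theorem card_conjClasses_add_two_le {p : ℕ} [hp : Fact p.Prime] {G M : Type*} [Group G] [Finite G]
    [Group M] [Finite M] (f : G →* M) (hf : Function.Surjective f) (hM : ¬ p ∣ Nat.card M)
    {v w : G} (hv : f v = 1) (hw : f w = 1) (hv1 : v ≠ 1) (hw1 : w ≠ 1) (hvp : ¬ p ∣ orderOf v)
    (hwp : ¬ p ∣ orderOf w) (hvw : ¬ IsConj v w) : Nat.card (ConjClasses M) + 2 ≤ pregCount p G := by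
  classical
  let π := fun c : {c : ConjClasses G // ∃ g : G, ConjClasses.mk g = c ∧ ¬ p ∣ orderOf g} =>
    ConjClasses.map f c.1
  let e : {c : ConjClasses G // ∃ g : G, ConjClasses.mk g = c ∧ ¬ p ∣ orderOf g} :=
    ⟨ConjClasses.mk 1, 1, rfl, by rw [orderOf_one]; exact hp.out.not_dvd_one⟩
  let a : {c : ConjClasses G // ∃ g : G, ConjClasses.mk g = c ∧ ¬ p ∣ orderOf g} :=
    ⟨ConjClasses.mk v, v, rfl, hvp⟩
  let b : {c : ConjClasses G // ∃ g : G, ConjClasses.mk g = c ∧ ¬ p ∣ orderOf g} :=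
    ⟨ConjClasses.mk w, w, rfl, hwp⟩
  have he : π e = ConjClasses.mk 1 := congrArg ConjClasses.mk (map_one f)
  have ha : π a = ConjClasses.mk 1 := congrArg ConjClasses.mk hv
  have hb : π b = ConjClasses.mk 1 := congrArg ConjClasses.mk hw
  have hea : e ≠ a := fun h => hv1 (isConj_one_right.1 (ConjClasses.mk_eq_mk_iff_isConj.1
    (congrArg Subtype.val h)))
  have heb : e ≠ b := fun h => hw1 (isConj_one_right.1 (ConjClasses.mk_eq_mk_iff_isConj.1
    (congrArg Subtype.val h)))
  have hab : a ≠ b := fun h => hvw (ConjClasses.mk_eq_mk_iff_isConj.1 (congrArg Subtype.val h))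
  choose s hs using preg_map_surjective (p := p) f hf hM
  let σ : ConjClasses M → {c : ConjClasses G // ∃ g : G, ConjClasses.mk g = c ∧ ¬ p ∣ orderOf g} :=
    fun d => if d = ConjClasses.mk 1 then e else s d
  have hσ : ∀ d, π (σ d) = d := by
    intro d
    by_cases h : d = ConjClasses.mk 1
    · simp [σ, h, he]
    · simp [σ, h]; exact hs d
  have hσne : ∀ x, x ≠ e → π x = ConjClasses.mk 1 → ∀ d, σ d ≠ x := by
    intro x hx hπ d h
    have hd : d = ConjClasses.mk 1 := by rw [← hσ d, h, hπ]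
    exact hx (by rw [← h]; simp [σ, hd])
  have hF : Function.Injective (Sum.elim σ ![a, b]) := by
    refine Function.Injective.sumElim (fun d d' h => by rw [← hσ d, h, hσ d']) ?_ ?_
    · intro i j h
      fin_cases i <;> fin_cases j <;> simp_all [hab.symm]
    · intro d i
      fin_cases i
      · exact hσne a hea.symm ha d
      · exact hσne b heb.symm hb d
  have hcard := Nat.card_le_card_of_injective _ hF
  rw [pregCount]
  simpa [Nat.card_sum] using hcard

/-- The group `121 . SL(2,5)` over a nontrivial kernel of order prime to eleven. -/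
theorem eleven_extra {G : Type*} [Group G] [Finite G] (K N : Subgroup G) [K.Normal] [N.Normal]
    (hKN : K ≤ N) (hK : K ≠ ⊥) (hKp : ¬ 11 ∣ Nat.card K) (hN : K.relIndex N = 121)
    (htrans : ∀ x ∈ N, x ∉ K → ∀ y ∈ N, y ∉ K → ∃ g : G, g * x * g⁻¹ * y⁻¹ ∈ K)
    (hH : Nat.card (G ⧸ N) = 120) (hk : 9 ≤ Nat.card (ConjClasses (G ⧸ N)))
    (hSL : Nonempty (G ⧸ N ≃* Matrix.SpecialLinearGroup (Fin 2) (ZMod 5))) :
    11 ≤ pregCount 11 G := by
  classical
  haveI hp : Fact (Nat.Prime 11) := ⟨by norm_num⟩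
  have hπ : Function.Surjective (QuotientGroup.mk' N) := QuotientGroup.mk'_surjective N
  have hM : ¬ 11 ∣ Nat.card (G ⧸ N) := by rw [hH]; norm_num
  have hKord : ∀ v ∈ K, ¬ 11 ∣ orderOf v := fun v hv h =>
    hKp (h.trans (Subgroup.orderOf_dvd_natCard K hv))
  have hKker : ∀ v ∈ K, QuotientGroup.mk' N v = 1 := fun v hv => (QuotientGroup.eq_one_iff v).2 (hKN hv)
  by_contra hlt
  -- one class of nontrivial elements in the kernel
  have htK : ∀ v ∈ K, v ≠ 1 → ∀ w ∈ K, w ≠ 1 → IsConj v w := by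
    intro v hv hv1 w hw hw1
    by_contra hc
    have := card_conjClasses_add_two_le (p := 11) _ hπ hM (hKker v hv) (hKker w hw) hv1 hw1 (hKord v hv)
      (hKord w hw) hc
    omega
  -- so it is an elementary abelian group
  obtain ⟨r, hr, hrd⟩ := Nat.exists_prime_and_dvd (K.one_lt_card_iff_ne_bot.2 hK).ne'
  haveI : Fact r.Prime := ⟨hr⟩
  obtain ⟨v₀, hv₀⟩ := exists_prime_orderOf_dvd_card' r hrd
  have hv₀1 : (v₀ : G) ≠ 1 := fun h => by
    have : v₀ = 1 := Subtype.ext h
    rw [this, orderOf_one] at hv₀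
    exact hr.ne_one hv₀.symm
  have hexp : ∀ v ∈ K, v ^ r = 1 := by
    intro v hv
    rcases eq_or_ne v 1 with rfl | h1
    · simp
    · obtain ⟨g, rfl⟩ := isConj_iff.1 (htK _ v₀.2 hv₀1 v hv h1)
      rw [conj_pow, ← hv₀, ← Subgroup.orderOf_coe, pow_orderOf_eq_one, mul_one, mul_inv_cancel]
  have hKr : IsPGroup r K := fun v => ⟨1, Subtype.ext (by simpa using hexp v v.2)⟩
  have hKab : ∀ a ∈ K, ∀ b ∈ K, a * b = b * a := by
    haveI : Nontrivial K := K.nontrivial_iff_ne_bot.2 hK
    haveI := hKr.center_nontrivial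
    obtain ⟨z, hz⟩ := exists_ne (1 : Subgroup.center K)
    intro a ha b hb
    rcases eq_or_ne a 1 with rfl | ha1
    · simp
    have hz1 : ((z : K) : G) ≠ 1 := fun h => hz (Subtype.ext (Subtype.ext h))
    obtain ⟨g, rfl⟩ := isConj_iff.1 (htK _ (z : K).2 hz1 a ha ha1)
    have hb' : g⁻¹ * b * g ∈ K := by
      simpa using (inferInstance : K.Normal).conj_mem b hb g⁻¹
    have h : g⁻¹ * b * g * ((z : K) : G) = ((z : K) : G) * (g⁻¹ * b * g) :=
      congrArg Subtype.val (Subgroup.mem_center_iff.1 z.2 ⟨_, hb'⟩)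
    calc g * ((z : K) : G) * g⁻¹ * b = g * (((z : K) : G) * (g⁻¹ * b * g)) * g⁻¹ := by group
      _ = g * (g⁻¹ * b * g * ((z : K) : G)) * g⁻¹ := by rw [h]
      _ = _ := by group
  haveI : IsMulCommutative K := ⟨⟨fun a b => Subtype.ext (hKab a a.2 b b.2)⟩⟩
  -- the Sylow subgroup of `N`
  have hNcard : Nat.card N = Nat.card K * 121 := by
    have h := (K.subgroupOf N).card_mul_index
    rw [Nat.card_congr (Subgroup.subgroupOfEquivOfLe hKN).toEquiv] at h
    rw [← hN, ← h]
    rfl
  obtain ⟨P₀, hP₀⟩ := Sylow.exists_subgroup_card_pow_prime 11 (n := 2) (G := N)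
    (by rw [hNcard]; exact dvd_mul_left _ _)
  set P := P₀.map N.subtype with hP
  have hPN : P ≤ N := Subgroup.map_subtype_le _
  have hPcard : Nat.card P = 11 ^ 2 := by
    rw [← hP₀]
    exact Nat.card_congr (P₀.equivMapOfInjective _ N.subtype_injective).toEquiv.symm
  haveI : IsMulCommutative P := IsPGroup.isMulCommutative_of_card_eq_prime_sq hPcard
  have hdis : ∀ x ∈ P, x ∈ K → x = 1 := by
    intro x hxP hxK
    have h1 : orderOf x ∣ 11 ^ 2 := hPcard ▸ Subgroup.orderOf_dvd_natCard P hxP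
    have h2 : orderOf x ∣ Nat.card K := Subgroup.orderOf_dvd_natCard K hxK
    rw [← orderOf_eq_one_iff]
    exact Nat.eq_one_of_dvd_coprimes (((hp.out.coprime_iff_not_dvd).2 hKp).pow_left 2) h1 h2
  have hgen : ∀ n ∈ N, ∃ k ∈ K, ∃ x ∈ P, n = k * x := by
    intro n hn
    have hinj : Function.Injective (fun y : K × P => (⟨(y.1 : G) * y.2, mul_mem (hKN y.1.2) (hPN y.2.2)⟩ : N)) := by
      intro y z h
      refine Subgroup.mul_injective_of_disjoint (disjoint_iff.2 ?_) (congrArg Subtype.val h)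
      exact (Subgroup.eq_bot_iff_forall _).2 fun x hx => hdis x hx.2 hx.1
    obtain ⟨⟨k, x⟩, h⟩ := ((Nat.bijective_iff_injective_and_card _).2 ⟨hinj,
      by rw [Nat.card_prod, hPcard, hNcard]; norm_num⟩).2 ⟨n, hn⟩
    exact ⟨k, k.2, x, x.2, (congrArg Subtype.val h).symm⟩
  -- the centraliser of the kernel in `N`
  have hCK : ∀ k ∈ K, k ∈ centralizer (K : Set G) := fun k hk =>
    mem_centralizer_iff.2 fun b hb => hKab b hb k hk
  haveI hCn : (centralizer (K : Set G)).Normal := Subgroup.normal_centralizer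
  have hall : ∀ y ∈ N, y ∉ K → y ∈ centralizer (K : Set G) → N ≤ centralizer (K : Set G) := by
    intro y hy hyK hyC n hn
    by_cases hnK : n ∈ K
    · exact hCK n hnK
    obtain ⟨g, hg⟩ := htrans y hy hyK n hn hnK
    have h1 : g * y * g⁻¹ ∈ centralizer (K : Set G) := hCn.conj_mem y hyC g
    have : n = (g * y * g⁻¹ * n⁻¹)⁻¹ * (g * y * g⁻¹) := by group
    rw [this]
    exact mul_mem (inv_mem (hCK _ hg)) h1
  have hcent : N ≤ centralizer (K : Set G) := by
    by_contra hnc
    -- some nontrivial element of `P` fixes some nontrivial element of `K`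
    have hfix : ∃ x ∈ P, x ≠ 1 ∧ ∃ v ∈ K, v ≠ 1 ∧ v * x = x * v := by
      by_contra hno
      push Not at hno
      have hcyc : IsCyclic P := CfsgLib.Frobenius.isCyclic_of_commutative_fpf hK
        (fun x _ => (Subgroup.normalizer_eq_top_iff.2 (inferInstance : K.Normal)).symm ▸ Subgroup.mem_top x)
        (fun x hx hx1 => (Subgroup.eq_bot_iff_forall _).2 fun v hv => by
          by_contra hv1
          exact hno x hx hx1 v hv.1 hv1 (Subgroup.mem_centralizer_singleton_iff.1 hv.2))
      obtain ⟨⟨x, hxP⟩, hx⟩ := hcyc.exists_ofOrder_eq_natCard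
      rw [Subgroup.orderOf_mk, hPcard] at hx
      have hxK : x ∉ K := fun h => by
        rw [hdis x hxP h, orderOf_one] at hx
        norm_num at hx
      have hxN := hPN hxP
      have hx11 : x ^ 11 ∉ K := fun h => by
        have := orderOf_dvd_of_pow_eq_one (hdis _ (pow_mem hxP 11) h)
        rw [hx] at this
        norm_num at this
      obtain ⟨g, hg⟩ := htrans (x ^ 11) (pow_mem hxN 11) hx11 x hxN hxK
      -- images modulo `K` have different orders
      have e : QuotientGroup.mk' K (g * x ^ 11 * g⁻¹) = QuotientGroup.mk' K x := by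
        rw [← mul_inv_eq_one, ← map_inv, ← map_mul]
        exact (QuotientGroup.eq_one_iff _).2 hg
      rw [map_mul, map_mul, map_pow, map_inv] at e
      have e11 := congrArg (fun y => y ^ 11) e
      simp only [conj_pow] at e11
      have h121 : QuotientGroup.mk' K x ^ 11 ^ 2 = 1 := by
        rw [← map_pow, ← hx, pow_orderOf_eq_one, map_one]
      rw [← pow_mul, show 11 * 11 = 11 ^ 2 by norm_num, h121, mul_one, mul_inv_cancel, ← map_pow] at e11
      exact hx11 ((QuotientGroup.eq_one_iff _).1 e11.symm)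
    obtain ⟨x₀, hx₀, hx₀1, v, hv, hv1, hvx⟩ := hfix
    have hex : ∀ w ∈ K, w ≠ 1 → ∃ x ∈ P, x ≠ 1 ∧ w * x = x * w := by
      intro w hw hw1
      obtain ⟨g, rfl⟩ := isConj_iff.1 (htK v hv hv1 w hw hw1)
      obtain ⟨k, hk', x, hx, he⟩ := hgen (g * x₀ * g⁻¹)
        ((inferInstance : N.Normal).conj_mem _ (hPN hx₀) g)
      refine ⟨x, hx, ?_, ?_⟩
      · rintro rfl
        rw [mul_one] at he
        have h : x₀ ∈ K := by
          have := (inferInstance : K.Normal).conj_mem _ hk' g⁻¹
          rw [← he] at this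
          simpa [mul_assoc] using this
        exact hx₀1 (hdis x₀ hx₀ h)
      · have hx' : x = k⁻¹ * (g * x₀ * g⁻¹) := by rw [he, inv_mul_cancel_left]
        have hc1 : Commute (g * v * g⁻¹) k := hKab _ hw k hk'
        have hc2 : Commute (g * v * g⁻¹) (g * x₀ * g⁻¹) := (Commute.conj_iff g).2 hvx
        rw [hx']
        exact (hc1.inv_right.mul_right hc2).eq
    -- lines of the fixing elements: all equal
    obtain ⟨x₁, hx₁, hx₁1, hv₁⟩ := hex v hv hv1
    have hcomm : ∀ a ∈ P, ∀ b ∈ P, Commute a b := fun a ha b hb =>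
      congrArg Subtype.val (mul_comm' (⟨a, ha⟩ : P) ⟨b, hb⟩)
    have hline : ∀ x ∈ P, x ≠ 1 → ∀ y ∈ P, y ∉ Subgroup.zpowers x →
        ∀ n ∈ P, n ∈ Subgroup.zpowers x ⊔ Subgroup.zpowers y := by
      intro x hx hx1 y hy hyx n hn
      have hxy : Subgroup.zpowers x ⊔ Subgroup.zpowers y ≤ P :=
        sup_le (zpowers_le.2 hx) (zpowers_le.2 hy)
      obtain ⟨i, hi, hic⟩ := (Nat.dvd_prime_pow hp.out).1 (hPcard ▸ Subgroup.card_dvd_of_le hxy)
      obtain ⟨j, hj, hjc⟩ := (Nat.dvd_prime_pow hp.out).1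
        (hPcard ▸ Subgroup.card_dvd_of_le (zpowers_le.2 hx))
      have hj0 : j ≠ 0 := by
        rintro rfl
        rw [pow_zero, Subgroup.card_eq_one, zpowers_eq_bot] at hjc
        exact hx1 hjc
      have hlt' : Subgroup.zpowers x < Subgroup.zpowers x ⊔ Subgroup.zpowers y :=
        lt_of_le_of_ne le_sup_left fun h => hyx (h.symm ▸ mem_sup_right (mem_zpowers y))
      have hlt2 : 11 ^ j < 11 ^ i := by
        rw [← hjc, ← hic]
        exact lt_of_not_ge fun h => hlt'.ne (eq_of_le_of_card_ge hlt'.le h)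
      have := (Nat.pow_lt_pow_iff_right (by norm_num : 1 < 11)).1 hlt2
      rw [eq_of_le_of_card_ge hxy (by rw [hic, hPcard, show i = 2 by omega])]
      exact hn
    have hcen : ∀ w ∈ K, ∀ x ∈ P, x ≠ 1 → ∀ y ∈ P, y ∉ Subgroup.zpowers x →
        Commute w x → Commute w y → w = 1 := by
      intro w hw x hx hx1 y hy hyx h1 h2
      by_contra hw1
      have hPw : P ≤ centralizer {w} := fun n hn => by
        refine (sup_le (zpowers_le.2 ?_) (zpowers_le.2 ?_) : _ ≤ centralizer {w}) (hline x hx hx1 y hy hyx n hn)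
        · exact Subgroup.mem_centralizer_singleton_iff.2 h1.eq.symm
        · exact Subgroup.mem_centralizer_singleton_iff.2 h2.eq.symm
      refine hnc fun n hn => mem_centralizer_iff.2 fun u hu => ?_
      rcases eq_or_ne u 1 with rfl | hu1
      · simp
      obtain ⟨g, rfl⟩ := isConj_iff.1 (htK w hw hw1 u hu hu1)
      obtain ⟨k, hk', z, hz, he⟩ := hgen _ ((inferInstance : N.Normal).conj_mem n hn g⁻¹)
      have hc : Commute w (g⁻¹ * n * g⁻¹⁻¹) := by
        rw [he]
        exact (show Commute w k from hKab w hw k hk').mul_right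
          (Subgroup.mem_centralizer_singleton_iff.1 (hPw hz)).symm
      have hc2 := (Commute.conj_iff g).2 hc
      rw [show g * (g⁻¹ * n * g⁻¹⁻¹) * g⁻¹ = n by group] at hc2
      exact hc2.eq
    have hsame : ∀ w ∈ K, Commute w x₁ := by
      intro w hw
      by_contra hne
      have hw1 : w ≠ 1 := fun h => hne (h ▸ Commute.one_left x₁)
      obtain ⟨y, hy, hy1, hwy⟩ := hex w hw hw1
      have hyx : y ∉ Subgroup.zpowers x₁ := by
        intro h
        obtain ⟨i, hi⟩ := mem_zpowers_iff.1 h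
        -- a nontrivial power of an element of prime order generates it
        have hx₁o : x₁ ^ 11 = 1 := by
          by_contra h11
          have hx11K : x₁ ^ 11 ∉ K := fun h => h11 (hdis _ (pow_mem hx₁ 11) h)
          obtain ⟨g, hg⟩ := htrans (x₁ ^ 11) (pow_mem (hPN hx₁) 11) hx11K x₁ (hPN hx₁)
            (fun h => hx₁1 (hdis _ hx₁ h))
          have e : QuotientGroup.mk' K (g * x₁ ^ 11 * g⁻¹) = QuotientGroup.mk' K x₁ := by
            rw [← mul_inv_eq_one, ← map_inv, ← map_mul]
            exact (QuotientGroup.eq_one_iff _).2 hg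
          rw [map_mul, map_mul, map_pow, map_inv] at e
          have e11 := congrArg (fun y => y ^ 11) e
          simp only [conj_pow] at e11
          have h121 : QuotientGroup.mk' K x₁ ^ 11 ^ 2 = 1 := by
            rw [← map_pow, show x₁ ^ 11 ^ 2 = 1 from orderOf_dvd_iff_pow_eq_one.1
              (hPcard ▸ Subgroup.orderOf_dvd_natCard P hx₁), map_one]
          rw [← pow_mul, show 11 * 11 = 11 ^ 2 by norm_num, h121, mul_one, mul_inv_cancel, ← map_pow] at e11
          exact hx11K ((QuotientGroup.eq_one_iff _).1 e11.symm)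
        have ho : orderOf x₁ = 11 := orderOf_eq_prime hx₁o hx₁1
        have hmem : x₁ ∈ Subgroup.zpowers y := by
          have hle : Subgroup.zpowers y ≤ Subgroup.zpowers x₁ := zpowers_le.2 h
          have : Nat.card (Subgroup.zpowers y) ∣ 11 :=
            ho ▸ Nat.card_zpowers x₁ ▸ Subgroup.card_dvd_of_le hle
          rcases (Nat.dvd_prime hp.out).1 this with h' | h'
          · rw [Nat.card_zpowers, orderOf_eq_one_iff] at h'
            exact absurd h' hy1
          · rw [eq_of_le_of_card_ge hle (by rw [h', Nat.card_zpowers, ho])]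
            exact mem_zpowers x₁
        obtain ⟨j, rfl⟩ := mem_zpowers_iff.1 hmem
        exact hne ((show Commute w y from hwy).zpow_right j)
      -- the product is fixed by a third line
      have hvw1 : v * w ≠ 1 := fun h => hne (by
        rw [eq_inv_of_mul_eq_one_right h]; exact (show Commute v x₁ from hv₁).inv_left)
      obtain ⟨z, hz, hz1, hzc⟩ := hex (v * w) (mul_mem hv hw) hvw1
      have hvz : z * v * z⁻¹ ∈ K := (inferInstance : K.Normal).conj_mem v hv z
      have hwz : z * w * z⁻¹ ∈ K := (inferInstance : K.Normal).conj_mem w hw z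
      have hd : v⁻¹ * (z * v * z⁻¹) = w * (z * w * z⁻¹)⁻¹ := by
        rw [eq_mul_inv_iff_mul_eq]
        calc v⁻¹ * (z * v * z⁻¹) * (z * w * z⁻¹) = v⁻¹ * (z * (v * w) * z⁻¹) := by group
          _ = v⁻¹ * (v * w) := by rw [← hzc, mul_inv_cancel_right]
          _ = w := by group
      have hone : v⁻¹ * (z * v * z⁻¹) = 1 := by
        refine hcen _ (mul_mem (inv_mem hv) hvz) x₁ hx₁ hx₁1 y hy hyx ?_ ?_
        · refine (show Commute v x₁ from hv₁).inv_left.mul_left ?_
          exact ((hcomm z hz x₁ hx₁).mul_left hv₁).mul_left (hcomm z hz x₁ hx₁).inv_left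
        · rw [hd]
          refine (show Commute w y from hwy).mul_left (Commute.inv_left ?_)
          exact ((hcomm z hz y hy).mul_left hwy).mul_left (hcomm z hz y hy).inv_left
      have hvzc : Commute v z := by
        rw [inv_mul_eq_one, eq_mul_inv_iff_mul_eq] at hone
        exact hone
      have hwzc : Commute w z := by
        rw [hone, eq_comm, mul_inv_eq_one, eq_mul_inv_iff_mul_eq] at hd
        exact hd
      by_cases hzx : z ∈ Subgroup.zpowers x₁
      · refine hw1 (hcen w hw z hz hz1 y hy ?_ hwzc hwy)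
        exact fun h => hyx ((zpowers_le.2 hzx) h)
      · exact hv1 (hcen v hv x₁ hx₁ hx₁1 z hz hzx hv₁ hvzc)
    exact hnc (hall x₁ (hPN hx₁) (fun h => hx₁1 (hdis _ hx₁ h))
      (mem_centralizer_iff.2 fun b hb => (hsame b hb).eq))
  -- so the Sylow eleven-subgroup is normal
  have hPnormal : P.Normal := by
    refine ⟨fun x hx g => ?_⟩
    obtain ⟨k, hk', y, hy, he⟩ := hgen _ ((inferInstance : N.Normal).conj_mem _ (hPN hx) g)
    have hc : Commute k y := mem_centralizer_iff.1 (hcent (hPN hy)) k hk'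
    have h1 : (g * x * g⁻¹) ^ 11 ^ 2 = 1 := by
      rw [conj_pow, orderOf_dvd_iff_pow_eq_one.1 (hPcard ▸ Subgroup.orderOf_dvd_natCard P hx), mul_one,
        mul_inv_cancel]
    have hy2 : y ^ 11 ^ 2 = 1 :=
      orderOf_dvd_iff_pow_eq_one.1 (hPcard ▸ Subgroup.orderOf_dvd_natCard P hy)
    rw [he, hc.mul_pow, hy2, mul_one] at h1
    have hk1 : k = 1 := orderOf_eq_one_iff.1 (Nat.eq_one_of_dvd_coprimes
      (((hp.out.coprime_iff_not_dvd).2 (hKord k hk')).pow_left 2) (orderOf_dvd_of_pow_eq_one h1) dvd_rfl)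
    rw [he, hk1, one_mul]
    exact hy
  haveI := hPnormal
  -- characters of the quotient by the Sylow subgroup
  set A := K.map (QuotientGroup.mk' P) with hA
  haveI : A.Normal := Subgroup.Normal.map inferInstance _ (QuotientGroup.mk'_surjective P)
  have hAcard : Nat.card A = Nat.card K := by
    refine (Nat.card_eq_of_bijective (fun k : K => (⟨QuotientGroup.mk' P k, k, k.2, rfl⟩ : A)) ⟨?_, ?_⟩).symm
    · intro a b h
      have h' : ((a : G) : G ⧸ P) = (b : G) := congrArg Subtype.val h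
      exact Subtype.ext (inv_mul_eq_one.1 (hdis _ (QuotientGroup.eq.1 h') (mul_mem (inv_mem a.2) b.2)))
    · rintro ⟨_, k, hk', rfl⟩
      exact ⟨⟨k, hk'⟩, rfl⟩
  have hEcard : Nat.card (G ⧸ P) = 120 * Nat.card K := by
    have h1 := P.card_mul_index
    have h2 := N.card_mul_index
    rw [Subgroup.index_eq_card] at h1 h2
    rw [hH, hNcard] at h2
    rw [hPcard, ← h2] at h1
    omega
  have hAindex : A.index = 120 := by
    have h := A.card_mul_index
    rw [hAcard, hEcard, mul_comm 120] at h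
    exact Nat.eq_of_mul_eq_mul_left Nat.card_pos h
  haveI : IsMulCommutative A := ⟨⟨by
    rintro ⟨_, a, ha, rfl⟩ ⟨_, b, hb, rfl⟩
    exact Subtype.ext (show QuotientGroup.mk' P a * QuotientGroup.mk' P b = _ * _ by
      rw [← map_mul, hKab a ha b hb, map_mul])⟩⟩
  have hAN : ∀ g : G, g ∈ A.comap (QuotientGroup.mk' P) ↔ g ∈ N := by
    intro g
    constructor
    · rintro ⟨k, hk', he⟩
      have : k⁻¹ * g ∈ P := QuotientGroup.eq.1 he
      have := mul_mem (hKN hk') (hPN this)
      simpa using this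
    · intro hg
      obtain ⟨k, hk', x, hx, rfl⟩ := hgen g hg
      exact ⟨k, hk', QuotientGroup.eq.2 (by simpa using hx)⟩
  have hcA : Nat.card (ConjClasses (G ⧸ N)) ≤ Nat.card (ConjClasses ((G ⧸ P) ⧸ A)) := by
    let f : (G ⧸ P) ⧸ A →* G ⧸ N := QuotientGroup.lift A
      (QuotientGroup.map P N (MonoidHom.id G) hPN) (by
        rintro _ ⟨k, hk', rfl⟩
        exact (QuotientGroup.eq_one_iff k).2 (hKN hk'))
    refine card_conjClasses_le_of_surjective f fun x => ?_
    obtain ⟨g, rfl⟩ := QuotientGroup.mk_surjective x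
    exact ⟨((g : G ⧸ P) : (G ⧸ P) ⧸ A), rfl⟩
  have hE11 : ¬ 11 ∣ Nat.card (G ⧸ P) := fun h => by
    rw [hEcard] at h
    exact (hp.out.dvd_mul.1 h).elim (by norm_num) hKp
  have hEk : Nat.card (ConjClasses (G ⧸ P)) ≤ 10 := by
    have := card_conjClasses_le_preg (p := 11) (QuotientGroup.mk' P) (QuotientGroup.mk'_surjective P) hE11
    omega
  haveI := Fintype.ofFinite (G ⧸ P)
  haveI := Fintype.ofFinite ((G ⧸ P) ⧸ A)
  let ι : Cfsg.IrrCharacter ((G ⧸ P) ⧸ A) ↪ Cfsg.IrrCharacter (G ⧸ P) :=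
    ⟨fun η => (CfsgLib.CharTools.quotientEquiv A η).1,
      fun a b h => (CfsgLib.CharTools.quotientEquiv A).injective (Subtype.ext h)⟩
  set s := Finset.univ.map ι with hs
  have hsum : ∑ χ ∈ s, Cfsg.charDegree (χ : G ⧸ P → ℂ) ^ 2 = 120 := by
    rw [hs, Finset.sum_map, ← hAindex, Subgroup.index_eq_card, ← CfsgLib.CharTools.sum_degree_sq']
    exact Finset.sum_congr rfl fun η _ => rfl
  have htot : ∑ χ : Cfsg.IrrCharacter (G ⧸ P), Cfsg.charDegree (χ : G ⧸ P → ℂ) ^ 2 = 120 * Nat.card K := by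
    rw [CfsgLib.CharTools.sum_degree_sq', hEcard]
  rw [← Finset.sum_sdiff (Finset.subset_univ s), hsum] at htot
  have hscard : 9 ≤ s.card := by
    rw [hs, Finset.card_map, Finset.card_univ, ← Nat.card_eq_fintype_card, CfsgLib.Char.card_irrCharacter]
    omega
  have hdiff : (Finset.univ \ s).card ≤ 1 := by
    rw [Finset.card_univ_sdiff, ← Nat.card_eq_fintype_card, CfsgLib.Char.card_irrCharacter]
    omega
  have hK2 := K.one_lt_card_iff_ne_bot.2 hK
  obtain ⟨χ, hχ⟩ : ∃ χ, Finset.univ \ s = {χ} := by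
    refine Finset.card_eq_one.1 (le_antisymm hdiff (Finset.card_pos.2 ?_))
    by_contra h
    rw [Finset.not_nonempty_iff_eq_empty] at h
    rw [h, Finset.sum_empty] at htot
    omega
  rw [hχ, Finset.sum_singleton] at htot
  obtain ⟨n, ρ, hρ, hρe⟩ := χ.2
  have hd : Cfsg.charDegree (χ : G ⧸ P → ℂ) ∣ 120 := by
    haveI := hρ
    rw [← hAindex, ← hρe, show Cfsg.charDegree ρ.character = CfsgLib.Char.degree ρ.character from rfl,
      CfsgLib.Char.degree_character]
    exact CfsgLib.Char.finrank_dvd_index_of_abelian_normal ρ A fun a ha b hb =>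
      congrArg Subtype.val (mul_comm' (⟨a, ha⟩ : A) ⟨b, hb⟩)
  set d := Cfsg.charDegree (χ : G ⧸ P → ℂ)
  have hcases : Nat.card K = 31 ∨ Nat.card K = 121 := by
    have hdd : d ∈ (120 : ℕ).divisors := Nat.mem_divisors.2 ⟨hd, by norm_num⟩
    have h0 : d ^ 2 % 120 = 0 := by omega
    have h60 : d = 60 ∨ d = 120 :=
      (by decide +kernel : ∀ e ∈ (120 : ℕ).divisors, e ^ 2 % 120 = 0 → e = 60 ∨ e = 120) d hdd h0
    rcases h60 with h | h <;> rw [h] at htot <;> omega
  have h31 : Nat.card K = 31 := hcases.resolve_right fun h => hKp (by rw [h]; norm_num)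
  -- a perfect group cannot move a group of prime order
  haveI : Fact (Nat.Prime 31) := ⟨by norm_num⟩
  haveI : IsCyclic K := isCyclic_of_prime_card h31
  let φ : G →* MulAut K := MulAut.conjNormal
  have hperf : commutator (G ⧸ N) = ⊤ := by
    obtain ⟨e⟩ := hSL
    haveI : Fact (Nat.Prime 5) := ⟨by norm_num⟩
    have h := CfsgLib.Linear.commutator_SL_eq_top (n := Fin 2) (F := ZMod 5) (Or.inr (CfsgLib.Linear.exists_sq_ne_one_of_four_le_card (by rw [Nat.card_zmod]; norm_num)))
    rw [_root_.commutator_def] at h ⊢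
    apply Subgroup.map_injective e.injective (f := e.toMonoidHom)
    rw [Subgroup.map_commutator, Subgroup.map_top_of_surjective _ e.surjective, h]
  have hφN : N ≤ φ.ker := fun n hn => MonoidHom.mem_ker.2 (MulEquiv.ext fun k => Subtype.ext (by
    show n * k * n⁻¹ = k
    rw [← mem_centralizer_iff.1 (hcent hn) k k.2, mul_inv_cancel_right]))
  let ψ : G ⧸ N →* MulAut K := QuotientGroup.lift N φ hφN
  have hψ : ∀ y, ψ y = 1 := by
    intro y
    have : commutator (G ⧸ N) ≤ ψ.ker := by
      rw [_root_.commutator_def, Subgroup.commutator_le]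
      intro a _ b _
      rw [MonoidHom.mem_ker, map_commutatorElement, commutatorElement_eq_one_iff_mul_comm]
      refine MulEquiv.ext fun k => ?_
      obtain ⟨i, hi⟩ := MonoidHom.map_cyclic (ψ a).toMonoidHom
      obtain ⟨j, hj⟩ := MonoidHom.map_cyclic (ψ b).toMonoidHom
      show ψ a (ψ b k) = ψ b (ψ a k)
      have hia : ∀ u, ψ a u = u ^ i := hi
      have hjb : ∀ u, ψ b u = u ^ j := hj
      rw [hia, hjb, hjb, hia, ← zpow_mul, ← zpow_mul, mul_comm]
    exact MonoidHom.mem_ker.1 (this (hperf ▸ Subgroup.mem_top y))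
  have hv₀2 : (v₀ : G) ^ 2 ≠ 1 := fun h => by
    have h2 : orderOf v₀ ∣ 2 := orderOf_dvd_of_pow_eq_one (Subtype.ext (by simpa using h))
    have h31' : orderOf v₀ ∣ 31 := h31 ▸ orderOf_dvd_natCard v₀
    have := Nat.eq_one_of_dvd_coprimes (by norm_num : Nat.Coprime 2 31) h2 h31'
    rw [hv₀] at this
    exact hr.ne_one this
  obtain ⟨g, hg⟩ := isConj_iff.1 (htK _ v₀.2 hv₀1 _ (pow_mem v₀.2 2) hv₀2)
  have hfixed : g * (v₀ : G) * g⁻¹ = v₀ :=
    congrArg Subtype.val (DFunLike.congr_fun (hψ (QuotientGroup.mk g)) v₀)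
  rw [hfixed] at hg
  exact hv₀1 (mul_right_cancel ((hg.trans (pow_two _)).symm.trans (one_mul _).symm))

end CfsgLib.KpRegular
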