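import Cfsg.Agent.Lib.KpRegular.Basic
import Cfsg.Agent.Lib.KpRegular.PlaneClasses
import Cfsg.Agent.Lib.Zassenhaus.Transfer
import Cfsg.Agent.Lib.Zassenhaus.Nonsolvable

/-!
# Groups of order prime to `p` transitive on the nonzero vectors of a plane
-/

set_option autoImplicit false
set_option linter.style.haveILetI false
set_option linter.unusedSectionVars false

namespace CfsgLib.KpRegular

open CfsgLib.Zassenhaus

theorem sq_card_le_mul_card {D : Type*} [Group D] [Finite D] (A : Subgroup D)
    (hA : ∀ x ∈ A, ∀ y ∈ A, x * y = y * x) :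
    Nat.card A * Nat.card A ≤ Nat.card (ConjClasses D) * Nat.card D := by
  rw [← card_comm_eq_card_conjClasses_mul_card, ← Nat.card_prod]
  exact Nat.card_le_card_of_injective
    (fun x : A × A => (⟨((x.1 : D), (x.2 : D)), hA _ x.1.2 _ x.2.2⟩ :
      {q : D × D // Commute q.1 q.2}))
    fun x y h => by
      have := congrArg Subtype.val h
      simp only [Prod.mk.injEq] at this
      exact Prod.ext (Subtype.ext this.1) (Subtype.ext this.2)

section

variable {D : Type*} [Group D] [Finite D] {E : Type*} [AddCommGroup E] [Finite E]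
  [DistribMulAction D E] [FaithfulSMul D E]
variable (p : ℕ) [Fact p.Prime] [Module (ZMod p) E]

theorem not_solvable_of_params (hp5 : 5 ≤ p) (hcard : Nat.card E = p ^ 2) (hD : ¬ p ∣ Nat.card D)
    (hz : Nat.card (scal D E p) = 2) (h120 : Nat.card D = 120)
    (hk : Nat.card (ConjClasses D) = 9) : ¬ Group.IsSolvable D := by
  intro hsol
  set Z := scal D E p with hZ
  have hab : ∀ N : Subgroup D, N.Normal → (∀ x ∈ N, ∀ y ∈ N, x * y = y * x) → N ≤ Z := by
    intro N hN hNc d hdN
    by_contra hd
    have hle : N ≤ Subgroup.centralizer ({d} : Set D) := fun x hx =>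
      Subgroup.mem_centralizer_singleton_iff.2 (hNc x hx d hdN)
    obtain ⟨e, he, hcs⟩ := card_stab p hcard hp5 hD hd (S := ⊤) le_top
      fun n _ => hle (hN.conj_mem d hdN n)
    rw [Subgroup.card_top, h120] at hcs
    have hA := sq_card_le_mul_card (Subgroup.centralizer ({d} : Set D))
      fun x hx y hy => comm_comm p hcard hd hx hy
    rw [hk, h120] at hA
    have : 60 ≤ Nat.card (Subgroup.centralizer ({d} : Set D)) := by
      rcases he with rfl | rfl <;> omega
    have := Nat.mul_le_mul this this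
    omega
  haveI : Fact (Nat.Prime 5) := ⟨by norm_num⟩
  haveI : Fact (Nat.Prime 2) := ⟨Nat.prime_two⟩
  obtain ⟨y, hy⟩ := exists_prime_orderOf_dvd_card' (G := D) 5 (by rw [h120]; norm_num)
  have hyZ : y ∉ Z := fun h => by
    have : orderOf y ∣ 2 := hz ▸ Subgroup.orderOf_dvd_natCard _ h
    rw [hy] at this
    norm_num at this
  have hstep : ∀ N : Subgroup D, N.Normal → ⁅N, N⁆ ≤ Z → N ≤ Z := by
    intro N hN hNZ
    have hsq : ∀ x ∈ N, x * x ∈ Z := by
      intro x hx
      have hcen : ((Subgroup.center N).map N.subtype).Normal :=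
        ConjAct.normal_of_characteristic_of_normal
      refine hab _ hcen ?_ ⟨⟨x * x, N.mul_mem hx hx⟩, ?_, rfl⟩
      · rintro _ ⟨a, ha, rfl⟩ _ ⟨b, hb, rfl⟩
        exact congrArg Subtype.val (Subgroup.mem_center_iff.1 hb a)
      · refine Subgroup.mem_center_iff.2 fun w => Subtype.ext ?_
        show (w : D) * (x * x) = x * x * (w : D)
        have hz' : x * (w : D) * x⁻¹ * (w : D)⁻¹ ∈ Z := hNZ (Subgroup.commutator_mem_commutator hx w.2)
        have hc := Subgroup.mem_centralizer_iff.1 (scal_le_centralizer p Set.univ hz')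
        have h2 : (x * (w : D) * x⁻¹ * (w : D)⁻¹) ^ 2 = 1 := by
          have := pow_card_eq_one' (G := Z) (x := ⟨_, hz'⟩)
          rw [hz] at this
          exact congrArg Subtype.val this
        set u := x * (w : D) * x⁻¹ * (w : D)⁻¹ with hu
        have e1 : x * (w : D) = u * (w : D) * x := by rw [hu]; group
        calc (w : D) * (x * x) = u ^ 2 * (w : D) * (x * x) := by rw [h2, one_mul]
          _ = u * (u * (w : D) * x) * x := by rw [pow_two]; group
          _ = u * (x * (w : D)) * x := by rw [← e1]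
          _ = x * (u * (w : D) * x) := by rw [← mul_assoc u, ← hc x trivial]; group
          _ = x * x * (w : D) := by rw [← e1, mul_assoc]
    have hpg : IsPGroup 2 N := fun a => ⟨2, Subtype.ext (by
      have := pow_card_eq_one' (G := Z) (x := ⟨_, hsq a a.2⟩)
      rw [hz] at this
      have := congrArg Subtype.val this
      simp only [Subgroup.coe_pow, Subgroup.coe_one] at this ⊢
      rw [show 2 ^ 2 = 2 * 2 by norm_num, pow_mul, pow_two (a : D)]
      exact this)⟩
    obtain ⟨j, hj⟩ := hpg.exists_card_eq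
    have hj3 : j ≤ 3 := by
      by_contra hj4
      have h16 : 2 ^ 4 ∣ Nat.card N := hj ▸ Nat.pow_dvd_pow 2 (by omega)
      have : 2 ^ 4 ∣ 120 := h120 ▸ h16.trans N.card_subgroup_dvd_card
      norm_num at this
    let act : MulAction (Subgroup.zpowers y) N :=
      MulAction.compHom N ((MulAut.conjNormal (H := N)).comp (Subgroup.zpowers y).subtype)
    have hP : IsPGroup 5 (Subgroup.zpowers y) :=
      IsPGroup.of_card (n := 1) (by rw [Nat.card_zpowers, hy]; norm_num)
    letI := act
    have hmod := hP.card_modEq_card_fixedPoints N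
    set C := Subgroup.centralizer ({y} : Set D) with hC
    have hfix : Nat.card (MulAction.fixedPoints (Subgroup.zpowers y) N) = Nat.card (N ⊓ C : Subgroup D) := by
      refine Nat.card_congr
        { toFun := fun x => ⟨(x.1 : D), x.1.2, ?_⟩
          invFun := fun x => ⟨⟨x.1, x.2.1⟩, ?_⟩
          left_inv := fun x => rfl
          right_inv := fun x => rfl }
      · have h : y * (x.1 : D) * y⁻¹ = (x.1 : D) :=
          congrArg Subtype.val (x.2 ⟨y, Subgroup.mem_zpowers y⟩)
        exact Subgroup.mem_centralizer_singleton_iff.2 (mul_inv_eq_iff_eq_mul.1 h).symm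
      · rintro ⟨g, i, rfl⟩
        refine Subtype.ext ?_
        show y ^ i * x.1 * (y ^ i)⁻¹ = x.1
        have hc : Commute x.1 y := Subgroup.mem_centralizer_singleton_iff.1 x.2.2
        rw [mul_inv_eq_iff_eq_mul]
        exact (hc.zpow_right i).eq.symm
    obtain ⟨i, hi⟩ : ∃ i, Nat.card (N ⊓ C : Subgroup D) = 2 ^ i :=
      (hpg.to_le inf_le_left).exists_card_eq
    have hij : i ≤ j := (Nat.pow_le_pow_iff_right one_lt_two).1
      (hi ▸ hj ▸ Subgroup.card_le_of_le inf_le_left)
    rw [hfix, hi, hj] at hmod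
    have hij' : i = j := by
      unfold Nat.ModEq at hmod
      interval_cases j <;> interval_cases i <;> first | rfl | norm_num at hmod
    have hle : N ≤ C := by
      have heq : N ⊓ C = N := Subgroup.eq_of_le_of_card_ge inf_le_left (by rw [hi, hj, hij'])
      exact heq ▸ inf_le_right
    exact hab N hN fun a ha b hb => comm_comm p hcard hyZ (hle ha) (hle hb)
  obtain ⟨n, hn⟩ := (Group.isSolvable_def (G := D)).1 hsol
  have key : ∀ i, i ≤ n → derivedSeries D (n - i) ≤ Z := by
    intro i
    induction i with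
    | zero => intro _; rw [Nat.sub_zero, hn]; exact bot_le
    | succ i ih =>
      intro hi
      refine hstep _ (derivedSeries_normal D _) ?_
      rw [← derivedSeries_succ, show n - (i + 1) + 1 = n - i by omega]
      exact ih (by omega)
  have htop := key n le_rfl
  rw [Nat.sub_self, derivedSeries_zero] at htop
  exact hyZ (htop (Subgroup.mem_top y))

end

/-- A group of order prime to `p` transitive on the nonzero vectors of a plane over `𝔽_p` has at
least `p` classes, unless it is `SL(2, 5)` and `p = 11`. -/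
theorem two_dim {D E : Type*} [Group D] [Finite D] [AddCommGroup E] [Finite E]
    [DistribMulAction D E] [FaithfulSMul D E] (p : ℕ) [Fact p.Prime] (hp5 : 5 ≤ p)
    (hE : ∀ e : E, p • e = 0) (hcard : Nat.card E = p ^ 2) (hD : ¬ p ∣ Nat.card D)
    (htrans : ∀ a b : E, a ≠ 0 → b ≠ 0 → ∃ d : D, d • a = b) :
    p ≤ Nat.card (ConjClasses D) ∨ (p = 11 ∧ Nat.card D = 120 ∧ Nat.card (ConjClasses D) = 9 ∧
      Nonempty (D ≃* Matrix.SpecialLinearGroup (Fin 2) (ZMod 5))) := by
  have hp : p.Prime := Fact.out
  letI : Module (ZMod p) E := AddCommGroup.zmodModule hE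
  haveI : Nontrivial E := plane_nontrivial p hcard
  obtain ⟨z, hz⟩ : ∃ z, Nat.card (scal D E p) = z := ⟨_, rfl⟩
  have hz0 : 0 < z := hz ▸ Nat.card_pos
  have hzd : z ∣ p - 1 := hz ▸ card_scal_dvd p
  have hzle : z ≤ p - 1 := Nat.le_of_dvd (by omega) hzd
  obtain ⟨e0, he0⟩ := exists_ne (0 : E)
  have horb : ∀ e : E, e ≠ 0 → Nat.card (MulAction.orbit D e) = p ^ 2 - 1 := by
    intro e he
    have : MulAction.orbit D e = ({0} : Set E)ᶜ := by
      ext x
      refine ⟨?_, fun hx => htrans e x he hx⟩
      rintro ⟨d, rfl⟩ h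
      exact he ((smul_eq_zero_iff_eq d).1 h)
    rw [this, Nat.card_coe_set_eq, Set.ncard_compl, hcard, Set.ncard_singleton]
  have hos : ∀ e : E, e ≠ 0 →
      (p ^ 2 - 1) * Nat.card (MulAction.stabilizer D e) = Nat.card D := by
    intro e he
    classical
    haveI := Fintype.ofFinite D
    haveI := Fintype.ofFinite (MulAction.orbit D e)
    rw [← horb e he]
    simpa only [← Nat.card_eq_fintype_card] using
      MulAction.card_orbit_mul_card_stabilizer_eq_card_group D e
  have hdvd : p ^ 2 - 1 ∣ Nat.card D := ⟨_, (hos e0 he0).symm⟩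
  have hDge : p ^ 2 - 1 ≤ Nat.card D := Nat.le_of_dvd Nat.card_pos hdvd
  have hpp : 5 * p ≤ p ^ 2 := by rw [sq]; exact Nat.mul_le_mul_right p hp5
  have hfree : Nat.card D = p ^ 2 - 1 → ∀ d : D, d ≠ 1 → ∀ e : E, d • e = e → e = 0 := by
    intro hreg d hd e he
    by_contra he0
    have h1 := hos e he0
    rw [hreg] at h1
    have : Nat.card (MulAction.stabilizer D e) = 1 := Nat.eq_of_mul_eq_mul_left (n := p ^ 2 - 1) (by omega) (by rw [h1, mul_one])
    exact hd (Subgroup.mem_bot.1 (Subgroup.card_eq_one.1 this ▸ (MulAction.mem_stabilizer_iff.2 he)))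
  obtain ⟨h, hh⟩ : z ∣ Nat.card D := hz ▸ Subgroup.card_subgroup_dvd_card _
  have h2 : 2 ≤ h := by
    by_contra hn
    have : Nat.card D ≤ z := hh ▸ (Nat.mul_le_mul_left z (by omega : h ≤ 1)).trans (by omega)
    omega
  have hexc : ∀ c, _ := fun c => exceptional_params p z hp hp5 hzd (h := h) (c := c)
  rcases class_number_cases p hcard hp5 hD (by rw [hz]; exact hh) h2 with
    hc | hc | ⟨h', hc⟩ | ⟨h', hc⟩ | ⟨h', hc⟩
  · exact Or.inl (by omega)
  · exact Or.inl (by omega)
  · rw [hz] at hc
    rcases hexc 7 (Or.inl ⟨h', rfl⟩) (hh ▸ hdvd) with g | g | g <;>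
      exact Or.inl (by omega)
  · rw [hz] at hc
    rcases hexc 8 (Or.inr (Or.inl ⟨h', rfl⟩)) (hh ▸ hdvd) with g | ⟨-, hz1, hp'⟩ | g
    · exact Or.inl (by omega)
    · exfalso
      have h24 : Nat.card D = 24 := by rw [hh, hz1, h', one_mul]
      have hfree' := hfree (by rw [h24, hp']; norm_num)
      haveI : Fact (Nat.Prime 2) := ⟨Nat.prime_two⟩
      obtain ⟨i, hi⟩ := exists_prime_orderOf_dvd_card' (G := D) 2 (by rw [h24]; norm_num)
      have hi1 : i ≠ 1 := fun e => by rw [e, orderOf_one] at hi; exact absurd hi (by norm_num)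
      have hii : i * i = 1 := by rw [← pow_two, ← hi, pow_orderOf_eq_one]
      have hm : i ∈ scal D E p := mem_scal_of_smul p (a := (-1 : ZMod p)) fun e => by
        have h0 : e + i • e = 0 := hfree' i hi1 _ (by rw [smul_add, ← mul_smul, hii, one_smul, add_comm])
        rw [neg_one_smul]
        exact eq_neg_of_add_eq_zero_right h0
      rw [hz1, Subgroup.card_eq_one] at hz
      exact hi1 (Subgroup.mem_bot.1 (hz ▸ hm))
    · omega
  · rw [hz] at hc
    rcases hexc 9 (Or.inr (Or.inr ⟨h', rfl⟩)) (hh ▸ hdvd) with g | g | ⟨-, hz2, hp'⟩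
    · exact Or.inl (by omega)
    · omega
    · have h120 : Nat.card D = 120 := by rw [hh, hz2, h']
      have hk : Nat.card (ConjClasses D) = 9 := by omega
      refine Or.inr ⟨hp', h120, hk, ?_⟩
      have hns := not_solvable_of_params p hp5 hcard hD (hz.trans hz2) h120 hk
      have hfree' := hfree (by rw [h120, hp']; norm_num)
      let φ : D →* MulAut (Multiplicative E) := MonoidHom.mk'
        (fun d => AddEquiv.toMultiplicative (DistribMulAction.toAddEquiv E d))
        (fun a b => MulEquiv.ext fun m => congrArg Multiplicative.ofAdd (mul_smul a b m.toAdd))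
      have hG : HasFpf D := HasFpf.of_mulAut φ fun d hd m hm => Multiplicative.toAdd.injective
        (hfree' d hd m.toAdd (congrArg Multiplicative.toAdd hm))
      obtain ⟨A, M, hAM⟩ := hG.exists_nsData hns
      obtain ⟨ψ⟩ := hAM.equiv
      have hA : A = ⊤ := Subgroup.eq_top_of_card_eq _ (by
        rw [Nat.card_congr ψ.toEquiv, h120]; exact card_SL25)
      subst hA
      exact ⟨Subgroup.topEquiv.symm.trans ψ⟩

end CfsgLib.KpRegular
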