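import Cfsg.Agent.Lib.KpRegular.Semilinear
import Cfsg.Agent.Lib.KpRegular.TwoDim
import Cfsg.Agent.Lib.KpRegular.Arith

/-!
# A `p'`-group transitive on nonzero vectors has at least `p` classes, with two exceptions
-/

set_option autoImplicit false

open MulAction

namespace CfsgLib.KpRegular

theorem card_le_two_of_classes {D : Type*} [Group D] [Finite D]
    (h : Nat.card (ConjClasses D) ≤ 2) : Nat.card D ≤ 2 := by
  classical
  by_contra hcon
  push Not at hcon
  obtain ⟨a, ha⟩ : ∃ a : D, a ≠ 1 := by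
    by_contra hall
    push Not at hall
    have : Subsingleton D := ⟨fun u v => by rw [hall u, hall v]⟩
    rw [Nat.card_of_subsingleton (1 : D)] at hcon
    omega
  have hall : ∀ b : D, b ≠ 1 → IsConj a b := by
    intro b hb
    by_contra hab
    have h1 : ConjClasses.mk (1 : D) ≠ ConjClasses.mk a := fun e =>
      ha (isConj_one_right.mp (ConjClasses.mk_eq_mk_iff_isConj.mp e))
    have h2 : ConjClasses.mk (1 : D) ≠ ConjClasses.mk b := fun e =>
      hb (isConj_one_right.mp (ConjClasses.mk_eq_mk_iff_isConj.mp e))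
    have h3 : ConjClasses.mk a ≠ ConjClasses.mk b := fun e =>
      hab (ConjClasses.mk_eq_mk_iff_isConj.mp e)
    have h4 := Set.ncard_le_ncard (Set.subset_univ
      ({ConjClasses.mk (1 : D), ConjClasses.mk a, ConjClasses.mk b} : Set (ConjClasses D))) (Set.toFinite _)
    rw [Set.ncard_eq_three.mpr ⟨_, _, _, h1, h2, h3, rfl⟩, Set.ncard_univ] at h4
    omega
  have hset : {b : D | IsConj a b} = ({1} : Set D)ᶜ := by
    ext b
    refine ⟨fun hb h1 => ha ?_, fun hb => hall b hb⟩
    rw [Set.mem_singleton_iff] at h1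
    exact isConj_one_left.mp (h1 ▸ hb)
  have h5 := Subgroup.index_dvd_card (Subgroup.centralizer ({a} : Set D))
  have h6 : Nat.card {b : D // IsConj a b} = Nat.card D - 1 := by
    rw [← Set.coe_ofPred, Nat.card_coe_set_eq, hset, Set.ncard_compl, Set.ncard_singleton]
  rw [Char.index_centralizer_eq_card_isConj, h6] at h5
  have h7 : Nat.card D - 1 ∣ 1 := by
    have := Nat.dvd_sub h5 (dvd_refl (Nat.card D - 1))
    rwa [show Nat.card D - (Nat.card D - 1) = 1 by omega] at this
  have := Nat.dvd_one.mp h7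
  omega

variable {D E : Type*} [Group D] [Finite D] [AddCommGroup E] [Finite E] [DistribMulAction D E]
  [FaithfulSMul D E]

/-- On a line the group is cyclic of order `p - 1`. -/
theorem line_case {p : ℕ} [hp : Fact p.Prime] (hcard : Nat.card E = p)
    (htrans : ∀ a b : E, a ≠ 0 → b ≠ 0 → ∃ d : D, d • a = b) :
    Nat.card D = p - 1 ∧ Nat.card (ConjClasses D) = p - 1 := by
  classical
  have : Nontrivial E := Finite.one_lt_card_iff_nontrivial.mp (hcard ▸ hp.out.one_lt)
  obtain ⟨e, he⟩ := exists_ne (0 : E)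
  have : Fact (Nat.card E).Prime := ⟨hcard.symm ▸ hp.out⟩
  have hgen : ∀ v : E, ∃ k : ℤ, k • e = v := by
    have h : AddSubgroup.zmultiples e = ⊤ :=
      (AddSubgroup.zmultiples e).eq_bot_or_eq_top_of_prime_card.resolve_left (fun h => he (by simpa using h))
    intro v
    exact AddSubgroup.mem_zmultiples_iff.mp (h ▸ AddSubgroup.mem_top v)
  have hlin : ∀ (g : D) (k : ℤ) (w : E), g • (k • w) = k • (g • w) := fun g k w =>
    map_zsmul (DistribSMul.toAddMonoidHom E g) k w
  have hcomm : ∀ g h : D, g * h = h * g := by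
    intro g h
    refine FaithfulSMul.eq_of_smul_eq_smul fun v : E => ?_
    obtain ⟨a, ha⟩ := hgen (g • e)
    obtain ⟨b, hb⟩ := hgen (h • e)
    obtain ⟨k, rfl⟩ := hgen v
    rw [mul_smul, mul_smul, hlin h, hlin g, hlin g, hlin h]
    congr 1
    rw [← hb, hlin, ← ha, hlin, ← hb, smul_comm]
  have hcardD : Nat.card D = p - 1 := by
    let f : D → ({0}ᶜ : Set E) := fun g => ⟨g • e, fun h => he ((smul_eq_zero_iff_eq g).mp h)⟩
    have hf : Function.Bijective f := by
      refine ⟨fun g h hgh => FaithfulSMul.eq_of_smul_eq_smul fun v : E => ?_, fun v => ?_⟩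
      · obtain ⟨k, rfl⟩ := hgen v
        rw [hlin, hlin]
        exact congrArg (k • ·) (congrArg Subtype.val hgh)
      · obtain ⟨g, hg⟩ := htrans e v he v.2
        exact ⟨g, Subtype.ext hg⟩
    rw [Nat.card_eq_of_bijective f hf, Nat.card_coe_set_eq, Set.ncard_compl, Set.ncard_singleton, hcard]
  refine ⟨hcardD, ?_⟩
  rw [← Nat.card_eq_of_bijective (ConjClasses.mk : D → ConjClasses D) ⟨fun g h hgh => ?_, ConjClasses.mk_surjective⟩, hcardD]
  obtain ⟨c, hc⟩ := isConj_iff.mp (ConjClasses.mk_eq_mk_iff_isConj.mp hgh)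
  rw [← hc, hcomm c g, mul_inv_cancel_right]

omit [Finite D] [Finite E] [FaithfulSMul D E] in
theorem sq_mul_lt_pow {p n : ℕ} (hp : 5 ≤ p) (hn : 3 ≤ n) : n ^ 2 * p < p ^ n := by
  induction n, hn using Nat.le_induction with
  | base => nlinarith [Nat.mul_le_mul hp hp]
  | succ m hm ih =>
    have h1 : (m + 1) ^ 2 ≤ m ^ 2 * p := by
      have := Nat.mul_le_mul_left (m ^ 2) hp
      nlinarith
    calc (m + 1) ^ 2 * p ≤ m ^ 2 * p * p := Nat.mul_le_mul_right p h1
      _ < p ^ m * p := Nat.mul_lt_mul_of_pos_right ih (by omega)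
      _ = _ := (pow_succ p m).symm

/-- Three or more dimensions. -/
theorem high_dim {p : ℕ} [hp : Fact p.Prime] (hp5 : 5 ≤ p) {n : ℕ} (hn : 3 ≤ n)
    (hE : ∀ e : E, p • e = 0) (hcard : Nat.card E = p ^ n) (hD : ¬ p ∣ Nat.card D)
    (htrans : ∀ a b : E, a ≠ 0 → b ≠ 0 → ∃ d : D, d • a = b) :
    p ≤ Nat.card (ConjClasses D) := by
  classical
  have : Nontrivial E := Finite.one_lt_card_iff_nontrivial.mp
    (hcard ▸ Nat.one_lt_pow (by omega) hp.out.one_lt)
  have hdvd := pow_sub_one_dvd_card hcard htrans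
  by_contra hk
  push Not at hk
  by_cases hex : ∃ r : ℕ, r.Prime ∧ r ∣ p ^ n - 1 ∧ (∀ k, 0 < k → k < n → ¬ r ∣ p ^ k - 1) ∧
      (r ^ 2 ∣ p ^ n - 1 ∨ 2 * n + 1 < r)
  · obtain ⟨r, hr, hrd, hmin, hbig⟩ := hex
    haveI := Fact.mk hr
    obtain ⟨x, hx, hnorm⟩ := exists_normal_zpowers hE hD (by omega) hcard hrd hmin (hrd.trans hdvd)
      (hbig.imp_left fun h => h.trans hdvd)
    have h1 := le_mul_classes hE (by omega) hcard hrd hmin hx hnorm
    have h2 := Nat.le_of_dvd Nat.card_pos hdvd
    have h3 : n * n * Nat.card (ConjClasses D) ≤ n * n * (p - 1) := Nat.mul_le_mul_left _ (by omega)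
    have h4 := sq_mul_lt_pow hp5 hn
    have h5 : n * n * (p - 1) + n * n = n ^ 2 * p := by
      rw [pow_two, ← Nat.mul_succ, show (p - 1).succ = p by omega]
    have : 1 < n * n := by nlinarith
    omega
  · push Not at hex
    have hsmall : CfsgLib.Zsigmondy.cyclotomicValue p n ∣ n * ((n + 1) * (2 * n + 1)) := by
      rw [Nat.dvd_iff_prime_pow_dvd_dvd]
      intro q j hq hqj
      rcases Nat.eq_zero_or_pos j with rfl | hj
      · simp
      haveI := Fact.mk hq
      have hqE : q ∣ Zsigmondy.cyclotomicValue p n := (dvd_pow_self q hj.ne').trans hqj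
      by_cases hqn : q ∣ n
      · obtain rfl : j = 1 := by
          by_contra hne
          exact Zsigmondy.sq_not_dvd hp.out.one_lt (by omega) hqn hqE
            ((pow_dvd_pow q (show 2 ≤ j by omega)).trans hqj)
        rw [pow_one]
        exact hqn.mul_right _
      · obtain ⟨k, m', hem, -, hord, -⟩ := Zsigmondy.orderOf_of_dvd (a := p) (by omega) hqE
        rcases k with _ | k
        · have hord' : orderOf (p : ZMod q) = n := by rw [hord]; simpa using hem.symm
          obtain ⟨h1, h2⟩ := Zsigmondy.primitive_of_orderOf hp.out.pos hord'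
          obtain ⟨hsq, hle⟩ := hex q hq h1 h2
          obtain rfl : j = 1 := by
            by_contra hne
            exact hsq (((pow_dvd_pow q (show 2 ≤ j by omega)).trans hqj).trans
              (Zsigmondy.cyclotomicValue_dvd_pow_sub_one hp.out.pos n))
          obtain ⟨c, hc⟩ := (Zsigmondy.dvd_sub_one_of_primitive hp.out.pos (by omega) h1 h2).2
          have hq2 := hq.two_le
          have hc2 : c ≤ 2 := by
            by_contra hc3
            have : n * 3 ≤ n * c := Nat.mul_le_mul_left n (by omega)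
            omega
          rw [pow_one]
          refine Dvd.dvd.mul_left ?_ n
          interval_cases c
          · omega
          · exact (show q = n + 1 by omega) ▸ dvd_mul_right _ _
          · exact (show q = 2 * n + 1 by omega) ▸ dvd_mul_left _ _
        · exact absurd (hem ▸ (dvd_pow_self q (Nat.succ_ne_zero k)).mul_right m') hqn
    obtain ⟨rfl, hp'⟩ := small_primitive_part hp.out hp5 hn hsmall
    let : Module (ZMod p) E := AddCommGroup.zmodModule (n := p) hE
    haveI hfd : Module.Finite (ZMod p) E := Module.Finite.of_finite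
    obtain ⟨ψ, hψ⟩ := exists_linear (D := D) (E := E) (p := p)
    have hfr := finrank_eq (p := p) (E := E) hcard
    rcases hp' with rfl | rfl
    · haveI := Fact.mk (show Nat.Prime 31 by norm_num)
      have h := sub_one_le_mul_classes ψ hψ (s := 31) (by norm_num) ((by norm_num : 31 ∣ 5 ^ 6 - 1).trans hdvd)
      rw [hfr] at h
      omega
    · haveI := Fact.mk (show Nat.Prime 307 by norm_num)
      have h := sub_one_le_mul_classes ψ hψ (s := 307) (by norm_num) ((by norm_num : 307 ∣ 17 ^ 6 - 1).trans hdvd)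
      rw [hfr] at h
      omega

/-- A `p'`-group transitive on the nonzero vectors has at least `p` classes, with two exceptions. -/
theorem linear_bound (p : ℕ) [hp : Fact p.Prime] {n : ℕ} (hn : 0 < n)
    (hE : ∀ e : E, p • e = 0) (hcard : Nat.card E = p ^ n) (hD : ¬ p ∣ Nat.card D)
    (htrans : ∀ a b : E, a ≠ 0 → b ≠ 0 → ∃ d : D, d • a = b) :
    p ≤ Nat.card (ConjClasses D) ∨
      (n = 1 ∧ Nat.card D = p - 1 ∧ Nat.card (ConjClasses D) = p - 1) ∨
      (p = 11 ∧ n = 2 ∧ Nat.card D = 120 ∧ Nat.card (ConjClasses D) = 9 ∧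
        Nonempty (D ≃* Matrix.SpecialLinearGroup (Fin 2) (ZMod 5))) := by
  rcases (show n = 1 ∨ 2 ≤ n by omega) with rfl | hn2
  · exact Or.inr (Or.inl ⟨rfl, line_case (by rw [hcard, pow_one]) htrans⟩)
  by_cases hp5 : 5 ≤ p
  · rcases (show n = 2 ∨ 3 ≤ n by omega) with rfl | hn3
    · rcases two_dim p hp5 hE hcard hD htrans with h | ⟨h1, h2, h3, h4⟩
      · exact Or.inl h
      · exact Or.inr (Or.inr ⟨h1, rfl, h2, h3, h4⟩)
    · exact Or.inl (high_dim hp5 hn3 hE hcard hD htrans)
  · left
    have : Nontrivial E := Finite.one_lt_card_iff_nontrivial.mp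
      (hcard ▸ Nat.one_lt_pow (by omega) hp.out.one_lt)
    have h1 := Nat.le_of_dvd Nat.card_pos (pow_sub_one_dvd_card hcard htrans)
    have h2 : p ^ 2 ≤ p ^ n := Nat.pow_le_pow_right hp.out.pos hn2
    have hp4 : p ≠ 4 := fun h => absurd hp.out (h ▸ by norm_num)
    by_contra hk
    push Not at hk
    have h3 := card_le_two_of_classes (D := D) (by omega)
    have h4 : 2 ^ 2 ≤ p ^ 2 := Nat.pow_le_pow_left hp.out.two_le 2
    omega

end CfsgLib.KpRegular
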