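import Cfsg.Agent.Lib.KpRegular.Basic

/-!
# Powers of an element of prime order which are conjugate to it in a linear group

They are at most as many as the degree, by the roots of the minimal polynomial.
-/

set_option autoImplicit false

open Polynomial

namespace CfsgLib.KpRegular

variable {D V : Type*} [Group D] [Finite D] [AddCommGroup V] {p : ℕ} [hp : Fact p.Prime]
  [Module (ZMod p) V] [Module.Finite (ZMod p) V]

theorem ncard_conj_zpowers_le (ψ : D →* Module.End (ZMod p) V) (hψ : Function.Injective ψ)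
    {s : ℕ} [hs : Fact s.Prime] (hsp : s ≠ p) {x : D} (hx : orderOf x = s) :
    {y : D | y ∈ Subgroup.zpowers x ∧ IsConj x y}.ncard ≤ Module.finrank (ZMod p) V := by
  classical
  let K := AlgebraicClosure (ZMod p)
  set T := ψ x with hT
  have hint : IsIntegral (ZMod p) T := Algebra.IsIntegral.isIntegral T
  set m := minpoly (ZMod p) T with hm
  have hdeg : m.natDegree ≤ Module.finrank (ZMod p) V := by
    rw [← LinearMap.charpoly_natDegree T]
    exact natDegree_le_of_dvd (LinearMap.minpoly_dvd_charpoly T)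
      (LinearMap.charpoly_monic T).ne_zero
  have hTs : T ^ s = 1 := by rw [hT, ← map_pow, ← hx, pow_orderOf_eq_one, map_one]
  have hT1 : T ≠ 1 := fun h => hs.out.ne_one (hx ▸ orderOf_eq_one_iff.mpr (hψ (h.trans (map_one ψ).symm)))
  have hnc : ¬ IsCoprime m (cyclotomic s (ZMod p)) := by
    rintro ⟨a, b, hab⟩
    have h1 := congrArg (aeval T) hab
    rw [map_add, map_mul, map_mul, hm, minpoly.aeval, mul_zero, zero_add, map_one] at h1
    have h2 : (T - 1) * aeval T (cyclotomic s (ZMod p)) = 0 := by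
      have h3 := congrArg (aeval T) (cyclotomic_prime_mul_X_sub_one (ZMod p) s)
      rw [mul_comm, map_mul, map_sub, map_sub, aeval_X, map_one, map_pow, aeval_X, hTs, sub_self] at h3
      exact h3
    refine hT1 (sub_eq_zero.mp ?_)
    calc T - 1 = (T - 1) * (aeval T b * aeval T (cyclotomic s (ZMod p))) := by rw [h1, mul_one]
      _ = (T - 1) * (aeval T (cyclotomic s (ZMod p)) * aeval T b) := by
          rw [← map_mul (aeval T), mul_comm b, map_mul]
      _ = 0 := by rw [← mul_assoc, h2, zero_mul]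
  obtain ⟨q, hqi, hqm, hqc⟩ : ∃ q : (ZMod p)[X], Irreducible q ∧ q ∣ m ∧ q ∣ cyclotomic s (ZMod p) := by
    rw [← gcd_isUnit_iff] at hnc
    have h0 : gcd m (cyclotomic s (ZMod p)) ≠ 0 := fun h => minpoly.ne_zero hint ((gcd_eq_zero_iff _ _).mp h).1
    obtain ⟨q, hq, hqd⟩ := WfDvdMonoid.exists_irreducible_factor hnc h0
    exact ⟨q, hq, hqd.trans (gcd_dvd_left _ _), hqd.trans (gcd_dvd_right _ _)⟩
  obtain ⟨ζ, hζ⟩ := IsAlgClosed.exists_aeval_eq_zero K q (degree_pos_of_irreducible hqi).ne'
  have hprim : IsPrimitiveRoot ζ s := by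
    have : NeZero (s : K) := ⟨fun h => hsp ((Nat.prime_dvd_prime_iff_eq hp.out hs.out).mp
      ((CharP.cast_eq_zero_iff K p s).mp h)).symm⟩
    rw [← isRoot_cyclotomic_iff, IsRoot, ← map_cyclotomic s (algebraMap (ZMod p) K), eval_map,
      ← aeval_def]
    exact aeval_eq_zero_of_dvd_aeval_eq_zero hqc hζ
  set S := {y : D | y ∈ Subgroup.zpowers x ∧ IsConj x y}
  have hj : ∀ y ∈ S, ∃ j : ℕ, j < s ∧ x ^ j = y := fun y hy => by
    obtain ⟨j, hj⟩ := mem_powers_iff_mem_zpowers.mpr hy.1
    exact ⟨j % s, Nat.mod_lt _ hs.out.pos, by rw [← hx, pow_mod_orderOf]; exact hj⟩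
  choose! J hJs hJ using hj
  have hroot : ∀ y ∈ S, ζ ^ J y ∈ (m.map (algebraMap (ZMod p) K)).roots.toFinset := by
    intro y hy
    obtain ⟨g, hg⟩ := isConj_iff.mp hy.2
    have hu : ψ g * ψ g⁻¹ = 1 ∧ ψ g⁻¹ * ψ g = 1 := by simp [← map_mul]
    let u : (Module.End (ZMod p) V)ˣ := ⟨ψ g, ψ g⁻¹, hu.1, hu.2⟩
    let c : Module.End (ZMod p) V →ₐ[ZMod p] Module.End (ZMod p) V :=
      { toFun := fun A => ψ g * A * ψ g⁻¹
        map_one' := by rw [mul_one, hu.1]
        map_mul' := fun A B => by
          rw [show ψ g * A * ψ g⁻¹ * (ψ g * B * ψ g⁻¹) = ψ g * A * (ψ g⁻¹ * ψ g) * B * ψ g⁻¹ by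
            simp only [mul_assoc], hu.2, mul_one]
          simp only [mul_assoc]
        map_zero' := by simp
        map_add' := fun A B => by simp [mul_add, add_mul]
        commutes' := fun r => by
          rw [Algebra.commutes r (ψ g) |>.symm, mul_assoc, hu.1, mul_one] }
    have h1 : aeval (T ^ J y) m = 0 := by
      have h2 : c T = T ^ J y := by
        show ψ g * ψ x * ψ g⁻¹ = ψ x ^ J y
        rw [← map_mul, ← map_mul, ← map_pow, hg, hJ y hy]
      rw [← h2, aeval_algHom_apply, hm, minpoly.aeval, map_zero]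
    have h3 : m ∣ m.comp (X ^ J y) := minpoly.dvd _ _ (by
      rw [aeval_comp, map_pow, aeval_X]; exact h1)
    have h4 : aeval ζ (m.comp (X ^ J y)) = 0 :=
      aeval_eq_zero_of_dvd_aeval_eq_zero (hqm.trans h3) hζ
    rw [aeval_comp, map_pow, aeval_X, aeval_def, ← eval_map] at h4
    rw [Multiset.mem_toFinset, mem_roots (map_ne_zero (minpoly.ne_zero hint))]
    exact h4
  calc S.ncard ≤ ((m.map (algebraMap (ZMod p) K)).roots.toFinset : Set K).ncard :=
        Set.ncard_le_ncard_of_injOn (fun y => ζ ^ J y) hroot (fun a ha b hb hab => by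
          rw [← hJ a ha, ← hJ b hb, hprim.pow_inj (hJs a ha) (hJs b hb) hab]) (Finset.finite_toSet _)
    _ ≤ Module.finrank (ZMod p) V := by
        rw [Set.ncard_coe_finset]
        exact ((Multiset.toFinset_card_le _).trans (card_roots' _)).trans
          (le_trans natDegree_map_le hdeg)

/-- An element of prime order `s` gives at least `(s - 1) / n` classes besides the identity. -/
theorem sub_one_le_mul_classes (ψ : D →* Module.End (ZMod p) V) (hψ : Function.Injective ψ)
    {s : ℕ} [hs : Fact s.Prime] (hsp : s ≠ p) (hdiv : s ∣ Nat.card D) :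
    s - 1 ≤ Module.finrank (ZMod p) V * (Nat.card (ConjClasses D) - 1) := by
  classical
  obtain ⟨x, hx⟩ := exists_prime_orderOf_dvd_card' s hdiv
  have := Fintype.ofFinite D
  have := Fintype.ofFinite (ConjClasses D)
  set S : Finset D := Finset.univ.filter fun y => y ∈ Subgroup.zpowers x ∧ y ≠ 1 with hS
  have hcard : S.card = s - 1 := by
    have h1 : S = (Finset.univ.filter fun y => y ∈ Subgroup.zpowers x).erase 1 := by
      ext y; simp [S, and_comm]
    rw [h1, Finset.card_erase_of_mem (by simp), ← Fintype.card_subtype,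
      ← Nat.card_eq_fintype_card]
    exact congrArg (· - 1) ((Nat.card_zpowers x).trans hx)
  rw [← hcard]
  refine (Finset.card_le_mul_card_image_of_maps_to
    (t := Finset.univ.erase (ConjClasses.mk (1 : D))) (f := ConjClasses.mk) (fun y hy => ?_) (Module.finrank (ZMod p) V)
    (fun c hc => ?_)).trans ?_
  · simp only [S, Finset.mem_filter, Finset.mem_univ, true_and] at hy
    rw [Finset.mem_erase]
    exact ⟨fun h => hy.2 (isConj_one_left.mp (ConjClasses.mk_eq_mk_iff_isConj.mp h)), Finset.mem_univ _⟩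
  · by_cases hne : (S.filter fun y => ConjClasses.mk y = c).Nonempty
    · obtain ⟨y₀, hy₀⟩ := hne
      simp only [S, Finset.mem_filter, Finset.mem_univ, true_and] at hy₀
      obtain ⟨⟨hy₀x, hy₀1⟩, hy₀c⟩ := hy₀
      have hy₀s : orderOf y₀ = s := by
        rcases hs.out.eq_one_or_self_of_dvd _ (hx ▸ orderOf_dvd_of_mem_zpowers hy₀x) with h | h
        · exact absurd (orderOf_eq_one_iff.mp h) hy₀1
        · exact h
      have hz : Subgroup.zpowers y₀ = Subgroup.zpowers x :=
        Subgroup.eq_of_le_of_card_ge (Subgroup.zpowers_le.mpr hy₀x)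
          (by rw [Nat.card_zpowers, Nat.card_zpowers, hy₀s, hx])
      refine le_trans ?_ (ncard_conj_zpowers_le ψ hψ hsp hy₀s)
      rw [← Set.ncard_coe_finset]
      refine Set.ncard_le_ncard (fun y hy => ?_) (Set.toFinite _)
      simp only [S, Finset.coe_filter, Finset.mem_filter, Finset.mem_univ, true_and, Set.mem_ofPred_eq] at hy
      exact ⟨hz ▸ hy.1.1, ConjClasses.mk_eq_mk_iff_isConj.mp (hy₀c.trans hy.2.symm)⟩
    · rw [Finset.not_nonempty_iff_eq_empty.mp hne]; simp
  · rw [Finset.card_erase_of_mem (Finset.mem_univ _), Finset.card_univ, Nat.card_eq_fintype_card]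

end CfsgLib.KpRegular
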