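import Cfsg.Prelude.Def_Perm
import Cfsg.Agent.Lib.KpRegular.Extra
import Cfsg.Agent.Lib.PLocal.HallHigman
import Cfsg.Agent.Lib.Components.Subnormal
import Cfsg.Agent.Lib.Frobenius.Basic

/-!
# `p`-solvable groups with one class of nontrivial `p`-elements: reduction to the linear problem
-/

set_option autoImplicit false
set_option linter.style.haveILetI false
set_option linter.unusedSectionVars false

namespace CfsgLib.KpRegular

open Subgroup

universe u

variable {G : Type u} [Group G] [Finite G] {p : ℕ} [hp : Fact p.Prime]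

/-- A `p`-element of an image lifts to a `p`-element. -/
theorem exists_pElement_lift {M : Type*} [Group M] (f : G →* M) (hf : Function.Surjective f) (x : M)
    (hx : ∃ k : ℕ, orderOf x = p ^ k) : ∃ g : G, f g = x ∧ ∃ k : ℕ, orderOf g = p ^ k := by
  obtain ⟨g, rfl⟩ := hf x
  obtain ⟨k, hk⟩ := hx
  obtain ⟨i, o, ho, hgo⟩ := Nat.exists_eq_pow_mul_and_not_dvd (orderOf_pos g).ne' p hp.out.ne_one
  have hcop : Nat.Coprime o (orderOf (f g)) := by
    rw [hk]; exact ((hp.out.coprime_iff_not_dvd.2 ho).pow_left k).symm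
  obtain ⟨j, hj⟩ := exists_pow_eq_self_of_coprime hcop
  refine ⟨(g ^ o) ^ j, by rw [map_pow, map_pow, hj], ?_⟩
  have h : ((g ^ o) ^ j) ^ p ^ i = 1 := by
    rw [← pow_mul, ← pow_mul, show o * (j * p ^ i) = p ^ i * o * j by ring, pow_mul, ← hgo,
      pow_orderOf_eq_one, one_pow]
  obtain ⟨m, -, hm⟩ := (Nat.dvd_prime_pow hp.out).1 (orderOf_dvd_of_pow_eq_one h)
  exact ⟨m, hm⟩

theorem conj_of_surjective {M : Type*} [Group M] (f : G →* M) (hf : Function.Surjective f)
    (hconj : ∀ x y : G, x ≠ 1 → y ≠ 1 → (∃ k : ℕ, orderOf x = p ^ k) → (∃ k : ℕ, orderOf y = p ^ k) → IsConj x y)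
    (x y : M) (hx : x ≠ 1) (hy : y ≠ 1) (hxp : ∃ k : ℕ, orderOf x = p ^ k)
    (hyp : ∃ k : ℕ, orderOf y = p ^ k) : IsConj x y := by
  obtain ⟨g, rfl, hg⟩ := exists_pElement_lift f hf x hxp
  obtain ⟨g', rfl, hg'⟩ := exists_pElement_lift f hf y hyp
  exact f.map_isConj (hconj g g' (fun e => hx (by rw [e, map_one])) (fun e => hy (by rw [e, map_one])) hg hg')

/-- With all nontrivial `p`-elements conjugate and no normal `p'`-subgroup, the `p`-core is an
elementary abelian self-centralising Sylow subgroup. -/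
theorem pCore_facts (hs : Cfsg.IsPSolvable p G) (hO : Cfsg.pPrimeCore p G = ⊥) (hnt : Nontrivial G)
    (hconj : ∀ x y : G, x ≠ 1 → y ≠ 1 → (∃ k : ℕ, orderOf x = p ^ k) → (∃ k : ℕ, orderOf y = p ^ k) → IsConj x y) :
    Cfsg.pCore p G ≠ ⊥ ∧ ¬ p ∣ (Cfsg.pCore p G).index ∧
      (∀ a ∈ Cfsg.pCore p G, ∀ b ∈ Cfsg.pCore p G, a * b = b * a) ∧
      (∀ a ∈ Cfsg.pCore p G, a ^ p = 1) ∧
      centralizer (Cfsg.pCore p G : Set G) ≤ Cfsg.pCore p G ∧
      (∀ x : G, (∃ k : ℕ, orderOf x = p ^ k) → x ∈ Cfsg.pCore p G) := by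
  set Q := Cfsg.pCore p G with hQ
  haveI hQn : Q.Normal := CfsgLib.Solvable.pCore_normal p G
  have hQp : IsPGroup p Q := CfsgLib.Solvable.pCore_isPGroup p G
  have hC := CfsgLib.PLoc.centralizer_pCore_le_self hs hO
  have hne : Q ≠ ⊥ := by
    intro h
    rw [← hQ, h] at hC
    obtain ⟨g, hg⟩ := exists_ne (1 : G)
    exact hg (Subgroup.mem_bot.1 (hC (mem_centralizer_iff.2 fun b hb => by
      rw [Subgroup.mem_bot.1 hb, one_mul, mul_one])))
  have hord : ∀ a ∈ Q, ∃ k : ℕ, orderOf a = p ^ k := fun a ha => by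
    obtain ⟨k, hk⟩ := hQp.exists_card_eq
    obtain ⟨m, -, hm⟩ := (Nat.dvd_prime_pow hp.out).1 (hk ▸ Subgroup.orderOf_dvd_natCard Q ha)
    exact ⟨m, hm⟩
  obtain ⟨z, hz, hz1⟩ := (Q.bot_or_exists_ne_one).resolve_left hne
  have hall : ∀ x : G, (∃ k : ℕ, orderOf x = p ^ k) → x ∈ Q := by
    intro x hx
    rcases eq_or_ne x 1 with rfl | h1
    · exact one_mem _
    obtain ⟨g, rfl⟩ := isConj_iff.1 (hconj z x hz1 h1 (hord z hz) hx)
    exact hQn.conj_mem z hz g
  have hindex : ¬ p ∣ Q.index := by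
    intro h
    rw [Subgroup.index_eq_card] at h
    obtain ⟨x, hx⟩ := exists_prime_orderOf_dvd_card' p h
    obtain ⟨g, rfl, hg⟩ := exists_pElement_lift (p := p) (QuotientGroup.mk' Q) (QuotientGroup.mk'_surjective Q)
      x ⟨1, by rw [hx, pow_one]⟩
    rw [QuotientGroup.mk'_apply, (QuotientGroup.eq_one_iff g).2 (hall g hg), orderOf_one] at hx
    exact hp.out.ne_one hx.symm
  have hexp : ∀ a ∈ Q, a ^ p = 1 := by
    intro a ha
    rcases eq_or_ne a 1 with rfl | h1
    · exact one_pow p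
    have hpd : p ∣ Nat.card Q := by
      obtain ⟨k, hk⟩ := hQp.exists_card_eq
      rcases k with _ | k
      · rw [pow_zero, Subgroup.card_eq_one] at hk; exact absurd hk hne
      · exact hk ▸ dvd_pow_self p k.succ_ne_zero
    obtain ⟨b, hb⟩ := exists_prime_orderOf_dvd_card' p hpd
    have hb1 : (b : G) ≠ 1 := fun e => by
      rw [← Subgroup.orderOf_coe, e, orderOf_one] at hb
      exact hp.out.ne_one hb.symm
    obtain ⟨g, rfl⟩ := isConj_iff.1 (hconj _ a hb1 h1 (hord _ b.2) (hord a ha))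
    rw [conj_pow, ← hb, ← Subgroup.orderOf_coe, pow_orderOf_eq_one, mul_one, mul_inv_cancel]
  have hab : ∀ a ∈ Q, ∀ b ∈ Q, a * b = b * a := by
    haveI : Nontrivial Q := Q.nontrivial_iff_ne_bot.2 hne
    haveI := hQp.center_nontrivial
    obtain ⟨c, hc⟩ := exists_ne (1 : Subgroup.center Q)
    intro a ha b hb
    rcases eq_or_ne a 1 with rfl | ha1
    · rw [one_mul, mul_one]
    have hc1 : ((c : Q) : G) ≠ 1 := fun h => hc (Subtype.ext (Subtype.ext h))
    obtain ⟨g, rfl⟩ := isConj_iff.1 (hconj _ a hc1 ha1 (hord _ (c : Q).2) (hord a ha))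
    have hb' : g⁻¹ * b * g ∈ Q := by simpa using hQn.conj_mem b hb g⁻¹
    have h : g⁻¹ * b * g * ((c : Q) : G) = ((c : Q) : G) * (g⁻¹ * b * g) :=
      congrArg Subtype.val (Subgroup.mem_center_iff.1 c.2 ⟨_, hb'⟩)
    calc g * ((c : Q) : G) * g⁻¹ * b = g * (((c : Q) : G) * (g⁻¹ * b * g)) * g⁻¹ := by group
      _ = g * (g⁻¹ * b * g * ((c : Q) : G)) * g⁻¹ := by rw [h]
      _ = _ := by group
  exact ⟨hne, hindex, hab, hexp, hC, hall⟩

/-- A nontrivial regular element of the kernel gives a further class. -/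
theorem card_conjClasses_lt_preg {M : Type*} [Group M] [Finite M] (f : G →* M)
    (hf : Function.Surjective f) (hM : ¬ p ∣ Nat.card M) {v : G} (hv : f v = 1) (hv1 : v ≠ 1)
    (hvp : ¬ p ∣ orderOf v) : Nat.card (ConjClasses M) < pregCount p G := by
  classical
  haveI := Fintype.ofFinite (ConjClasses M)
  haveI := Fintype.ofFinite {c : ConjClasses G // ∃ g : G, ConjClasses.mk g = c ∧ ¬ p ∣ orderOf g}
  rw [pregCount, Nat.card_eq_fintype_card, Nat.card_eq_fintype_card]
  refine Fintype.card_lt_of_surjective_not_injective _ (preg_map_surjective f hf hM) fun hinj => hv1 ?_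
  have := @hinj ⟨ConjClasses.mk v, v, rfl, hvp⟩
    ⟨ConjClasses.mk 1, 1, rfl, by rw [orderOf_one]; exact hp.out.not_dvd_one⟩
    (congrArg ConjClasses.mk (by rw [hv, map_one]))
  exact (isConj_one_left.1 (ConjClasses.mk_eq_mk_iff_isConj.1 (congrArg Subtype.val this)))

/-- A quotient by a fixed-point-free elementary Sylow kernel keeps the regular classes. -/
theorem pregCount_eq_of_fpf {M : Type*} [Group M] [Finite M] (f : G →* M)
    (hf : Function.Surjective f) (hM : ¬ p ∣ Nat.card M) (hker : IsPGroup p f.ker)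
    (hfpf : ∀ g : G, f g ≠ 1 → ∀ v ∈ f.ker, v * g = g * v → v = 1) :
    pregCount p G = Nat.card (ConjClasses M) := by
  refine Nat.card_eq_of_bijective _ ⟨?_, preg_map_surjective f hf hM⟩
  rintro ⟨_, g, rfl, hg⟩ ⟨_, h, rfl, hh⟩ e
  refine Subtype.ext (ConjClasses.mk_eq_mk_iff_isConj.2 ?_)
  obtain ⟨c, hc⟩ := isConj_iff.1 (ConjClasses.mk_eq_mk_iff_isConj.1 e)
  obtain ⟨c', rfl⟩ := hf c
  have hg' : c' * g * c'⁻¹ * h⁻¹ ∈ f.ker := by
    rw [MonoidHom.mem_ker, map_mul, map_mul, map_mul, map_inv, map_inv, hc, mul_inv_cancel]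
  by_cases h1 : f h = 1
  · have hgm : f g = 1 := by
      rw [h1, mul_inv_eq_one, mul_eq_left] at hc
      exact hc
    have key : ∀ x : G, f x = 1 → ¬ p ∣ orderOf x → x = 1 := by
      intro x hx hxp
      obtain ⟨k, hk⟩ := hker ⟨x, MonoidHom.mem_ker.2 hx⟩
      obtain ⟨m, -, hm⟩ := (Nat.dvd_prime_pow hp.out).1
        (orderOf_dvd_of_pow_eq_one (congrArg Subtype.val hk))
      rcases m with _ | m
      · exact orderOf_eq_one_iff.1 (by rw [show orderOf x = p ^ 0 from hm, pow_zero])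
      · exact absurd (hm ▸ dvd_pow_self p m.succ_ne_zero) hxp
    rw [key g hgm hg, key h h1 hh]
  · let N := f.ker
    have hbij : Function.Bijective fun u : N =>
        (⟨(u : G) * h * (u : G)⁻¹ * h⁻¹, mul_assoc ((u : G) * h) _ _ ▸ mul_assoc (u : G) h _ ▸
          mul_mem u.2 (by
            rw [← mul_assoc]
            exact f.normal_ker.conj_mem _ (inv_mem u.2) h)⟩ : N) := by
      refine Finite.injective_iff_bijective.1 fun a b hab => ?_
      have hab' : (a : G) * h * (a : G)⁻¹ = (b : G) * h * (b : G)⁻¹ :=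
        mul_right_cancel (congrArg Subtype.val hab)
      have : (b : G)⁻¹ * a * h = h * ((b : G)⁻¹ * a) := by
        calc (b : G)⁻¹ * a * h = (b : G)⁻¹ * ((a : G) * h * (a : G)⁻¹) * a := by group
          _ = (b : G)⁻¹ * ((b : G) * h * (b : G)⁻¹) * a := by rw [hab']
          _ = h * ((b : G)⁻¹ * a) := by group
      exact Subtype.ext (inv_mul_eq_one.1 (hfpf h h1 _ (mul_mem (inv_mem b.2) a.2) this)).symm
    obtain ⟨u, hu⟩ := hbij.2 ⟨_, hg'⟩
    have hu' : (u : G) * h * (u : G)⁻¹ = c' * g * c'⁻¹ := mul_right_cancel (congrArg Subtype.val hu)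
    refine isConj_iff.2 ⟨(u : G)⁻¹ * c', ?_⟩
    calc (u : G)⁻¹ * c' * g * ((u : G)⁻¹ * c')⁻¹ = (u : G)⁻¹ * (c' * g * c'⁻¹) * u := by group
      _ = (u : G)⁻¹ * ((u : G) * h * (u : G)⁻¹) * u := by rw [hu']
      _ = h := by group

/-- A group with a normal subgroup of prime order and a complement acting on it without fixed points
embeds in the affine group of the field of order `p`. -/
theorem exists_affine_embedding (N H : Subgroup G) [N.Normal] (hc : IsComplement' N H)
    (hN : Nat.card N = p) (hfpf : ∀ h ∈ H, h ≠ 1 → N ⊓ centralizer {h} = ⊥) :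
    ∃ F : G →* ↥(Cfsg.affineGroup (ZMod p)), Function.Injective F := by
  classical
  obtain ⟨⟨n₀, hn₀⟩, hgen⟩ := (isCyclic_of_prime_card hN).exists_ofOrder_eq_natCard
  rw [Subgroup.orderOf_mk, hN] at hgen
  have hpow : ∀ k : ℕ, n₀ ^ k = n₀ ^ ((k : ZMod p)).val := fun k => by
    rw [ZMod.val_natCast, ← hgen, pow_mod_orderOf]
  have hNgen : ∀ v ∈ N, ∃ i : ℕ, v = n₀ ^ i := by
    intro v hv
    have heq : zpowers n₀ = N := eq_of_le_of_card_ge (zpowers_le.2 hn₀) (by rw [Nat.card_zpowers, hgen, hN])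
    rw [← heq, ← mem_powers_iff_mem_zpowers] at hv
    obtain ⟨i, hi⟩ := hv
    exact ⟨i, hi.symm⟩
  have hdis : ∀ x, x ∈ N → x ∈ H → x = 1 := fun x hx hx' =>
    (Subgroup.disjoint_def.1 hc.disjoint) hx hx'
  let ι : ZMod p → G ⧸ H := fun i => ((n₀ ^ i.val : G) : G ⧸ H)
  have hι : Function.Bijective ι := by
    refine (Nat.bijective_iff_injective_and_card _).2 ⟨fun i j h => ?_, ?_⟩
    · have h' := hdis _ (mul_mem (inv_mem (pow_mem hn₀ _)) (pow_mem hn₀ _)) (QuotientGroup.eq.1 h)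
      rw [inv_mul_eq_one, pow_inj_mod, hgen, Nat.mod_eq_of_lt (ZMod.val_lt i),
        Nat.mod_eq_of_lt (ZMod.val_lt j)] at h'
      exact ZMod.val_injective p h'
    · rw [Nat.card_zmod, ← Subgroup.index_eq_card, hc.index_eq_card, hN]
  let e := Equiv.ofBijective ι hι
  let F : G →* Equiv.Perm (ZMod p) := e.symm.permCongrHom.toMonoidHom.comp (MulAction.toPermHom G (G ⧸ H))
  have hF : ∀ g i, ι (F g i) = g • ι i := fun g i => e.apply_symm_apply _
  have haff : ∀ g, F g ∈ Cfsg.affineGroup (ZMod p) := by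
    intro g
    obtain ⟨⟨⟨v, hv⟩, ⟨h, hh⟩⟩, rfl⟩ := hc.2 g
    obtain ⟨b, rfl⟩ := hNgen v hv
    obtain ⟨a, ha⟩ := hNgen _ (‹N.Normal›.conj_mem n₀ hn₀ h)
    have ha0 : ((a : ℕ) : ZMod p) ≠ 0 := by
      intro h0
      rw [hpow, h0, ZMod.val_zero, pow_zero, conj_eq_one_iff] at ha
      rw [ha, orderOf_one] at hgen
      exact hp.out.ne_one hgen.symm
    refine ⟨Units.mk0 _ ha0, (b : ZMod p), fun i => hι.1 ?_⟩
    rw [hF]
    show ((n₀ ^ b * h * n₀ ^ i.val : G) : G ⧸ H) = ((n₀ ^ _ : G) : G ⧸ H)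
    have key : n₀ ^ b * h * n₀ ^ i.val = n₀ ^ (a * i.val + b) * h := by
      rw [add_comm (a * i.val), pow_add, pow_mul, ← ha, conj_pow]
      group
    rw [key, QuotientGroup.mk_mul_of_mem _ hh, hpow (a * i.val + b), Units.val_mk0, Nat.cast_add,
      Nat.cast_mul, ZMod.natCast_zmod_val]
  have hinj : Function.Injective F := by
    rw [injective_iff_map_eq_one]
    intro g hg
    have hfix : ∀ i, g • ι i = ι i := fun i => by rw [← hF, hg]; rfl
    have h0 := hfix 0
    have hgH : g ∈ H := by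
      simp only [ι, ZMod.val_zero, pow_zero] at h0
      change ((g * 1 : G) : G ⧸ H) = ((1 : G) : G ⧸ H) at h0
      rw [QuotientGroup.eq, mul_one] at h0
      simpa using h0
    by_contra hg1
    obtain ⟨i, hi⟩ : ∃ i : ZMod p, n₀ ^ i.val = n₀ := ⟨((1 : ℕ) : ZMod p), by rw [← hpow, pow_one]⟩
    have h1 := hfix i
    change ((g * n₀ ^ i.val : G) : G ⧸ H) = ((n₀ ^ i.val : G) : G ⧸ H) at h1
    rw [hi, QuotientGroup.eq] at h1
    have hm : g * n₀ * g⁻¹ * n₀⁻¹ ∈ N := mul_mem (‹N.Normal›.conj_mem n₀ hn₀ g) (inv_mem hn₀)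
    have h2 : n₀⁻¹ * g * n₀ ∈ H := by
      have := inv_mem h1
      rw [mul_inv_rev, inv_inv] at this
      simpa [mul_assoc] using this
    have h3 : n₀⁻¹ * g * n₀ * g⁻¹ = 1 :=
      hdis _ (by
        have := mul_mem (inv_mem hn₀) (‹N.Normal›.conj_mem n₀ hn₀ g)
        simpa [mul_assoc] using this) (mul_mem h2 (inv_mem hgH))
    have h4 : g * n₀ = n₀ * g := by
      rw [mul_inv_eq_one, mul_assoc, inv_mul_eq_iff_eq_mul] at h3
      exact h3
    have : n₀ = 1 := Subgroup.mem_bot.1 (hfpf g hgH hg1 ▸ ⟨hn₀, mem_centralizer_singleton_iff.2 h4.symm⟩)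
    rw [this, orderOf_one] at hgen
    exact hp.out.ne_one hgen.symm
  exact ⟨F.codRestrict _ haff, fun x y h => hinj (congrArg Subtype.val h)⟩

/-- A group with a regular normal subgroup of prime order and a complement of order `p - 1` acting
without fixed points is the affine group of the field of order `p`. -/
theorem nonempty_equiv_affine (N H : Subgroup G) [N.Normal] (hc : IsComplement' N H)
    (hN : Nat.card N = p) (hH : Nat.card H = p - 1)
    (hfpf : ∀ h ∈ H, h ≠ 1 → N ⊓ centralizer {h} = ⊥) :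
    Nonempty (G ≃* ↥(Cfsg.affineGroup (ZMod p))) := by
  classical
  obtain ⟨F', hinj⟩ := exists_affine_embedding N H hc hN hfpf
  refine ⟨MulEquiv.ofBijective F' ((Nat.bijective_iff_injective_and_card _).2 ⟨hinj, ?_⟩)⟩
  refine le_antisymm (Nat.card_le_card_of_injective F' hinj) ?_
  rw [← hc.card_mul_card, hN, hH]
  have hle := Nat.card_le_card_of_injective
    (fun σ : ↥(Cfsg.affineGroup (ZMod p)) => (σ.2.choose_spec.choose, σ.2.choose))
    (fun σ τ h => by
      rw [Prod.mk.injEq] at h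
      refine Subtype.ext (Equiv.ext fun x => ?_)
      rw [σ.2.choose_spec.choose_spec x, τ.2.choose_spec.choose_spec x, h.1, h.2])
  rwa [Nat.card_prod, Nat.card_zmod, Nat.card_eq_fintype_card (α := (ZMod p)ˣ), ZMod.card_units] at hle

/-- The reduction of the theorem to linear groups transitive on nonzero vectors. -/
theorem classes_of_bound (hsolv : Cfsg.IsPSolvable p G) (hdiv : p ∣ Nat.card G)
    (hconj : ∀ x y : G, x ≠ 1 → y ≠ 1 → (∃ k : ℕ, orderOf x = p ^ k) → (∃ k : ℕ, orderOf y = p ^ k) → IsConj x y)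
    (hlin : ∀ (D E : Type u) [Group D] [Finite D] [AddCommGroup E] [Finite E] [DistribMulAction D E]
      [FaithfulSMul D E] (n : ℕ), 0 < n → (∀ e : E, p • e = 0) → Nat.card E = p ^ n → ¬ p ∣ Nat.card D →
      (∀ a b : E, a ≠ 0 → b ≠ 0 → ∃ d : D, d • a = b) →
      p ≤ Nat.card (ConjClasses D) ∨ (n = 1 ∧ Nat.card D = p - 1 ∧ Nat.card (ConjClasses D) = p - 1) ∨
        (p = 11 ∧ n = 2 ∧ Nat.card D = 120 ∧ Nat.card (ConjClasses D) = 9 ∧
          Nonempty (D ≃* Matrix.SpecialLinearGroup (Fin 2) (ZMod 5)))) :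
    p ≤ pregCount p G ∨ (pregCount p G = p - 1 ∧ Nonempty (G ≃* ↥(Cfsg.affineGroup (ZMod p)))) ∨
      (p = 11 ∧ pregCount p G = 9 ∧ (Nat.card G = 121 * 120 ∧ ∃ H : Subgroup G,
        Cfsg.IsFrobeniusComplement H ∧ Nonempty (↥H ≃* Matrix.SpecialLinearGroup (Fin 2) (ZMod 5)))) := by
  classical
  set K := Cfsg.pPrimeCore p G with hK
  haveI hKn : K.Normal := CfsgLib.Solvable.pPrimeCore_normal p G
  have hKp : ¬ p ∣ Nat.card K :=
    hp.out.coprime_iff_not_dvd.1 (CfsgLib.Components.coprime_card_pPrimeCore p).symm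
  let π := QuotientGroup.mk' K
  have hπ : Function.Surjective π := QuotientGroup.mk'_surjective K
  haveI hnt : Nontrivial (G ⧸ K) := by
    rw [← Finite.one_lt_card_iff_nontrivial, ← Subgroup.index_eq_card]
    have h := K.card_mul_index
    by_contra hle
    have := K.index_ne_zero_of_finite
    rw [show K.index = 1 by omega, mul_one] at h
    exact hKp (h ▸ hdiv)
  set Q := Cfsg.pCore p (G ⧸ K) with hQ
  haveI hQn : Q.Normal := CfsgLib.Solvable.pCore_normal p (G ⧸ K)
  obtain ⟨hQne, hQi, hQab, hQexp, hQC, -⟩ := pCore_facts (CfsgLib.PLoc.isPSolvable_of_surjective hπ hsolv)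
    (CfsgLib.Solvable.pPrimeCore_quotient_eq_bot (p := p) K hK) hnt (conj_of_surjective π hπ hconj)
  haveI hQc : IsMulCommutative Q := ⟨⟨fun a b => Subtype.ext (hQab a a.2 b b.2)⟩⟩
  let E := Additive Q
  letI : AddCommGroup E :=
    { (inferInstance : AddGroup (Additive Q)) with
      add_comm := fun a b => congrArg Additive.ofMul (Subtype.ext (hQab _ a.toMul.2 _ b.toMul.2)) }
  let D := (G ⧸ K) ⧸ Q
  let ψ : D →* MulAut Q := QuotientGroup.lift Q MulAut.conjNormal fun q hq =>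
    MonoidHom.mem_ker.2 (MulEquiv.ext fun w => Subtype.ext (by
      show q * w * q⁻¹ = w
      rw [hQab q hq w w.2, mul_inv_cancel_right]))
  letI : DistribMulAction D E :=
    { smul := fun d e => Additive.ofMul (ψ d e.toMul)
      one_smul := fun e => by
        show Additive.ofMul (ψ 1 e.toMul) = e
        rw [map_one]; rfl
      mul_smul := fun d d' e => by
        show Additive.ofMul (ψ (d * d') e.toMul) = Additive.ofMul (ψ d (ψ d' e.toMul))
        rw [map_mul]; rfl
      smul_zero := fun d => congrArg Additive.ofMul (map_one (ψ d))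
      smul_add := fun d a b => congrArg Additive.ofMul (map_mul (ψ d) a.toMul b.toMul) }
  haveI hfaith : FaithfulSMul D E := ⟨fun {d d'} h => by
    have hψ : ψ d = ψ d' := MulEquiv.ext fun w => Additive.ofMul.injective (h (Additive.ofMul w))
    have h1 : ψ (d⁻¹ * d') = 1 := by rw [map_mul, map_inv, hψ, inv_mul_cancel]
    obtain ⟨g, hg⟩ := QuotientGroup.mk'_surjective Q (d⁻¹ * d')
    rw [← hg] at h1
    have hgQ : g ∈ Q := hQC (mem_centralizer_iff.2 fun w hw => by
      have := congrArg Subtype.val (DFunLike.congr_fun h1 ⟨w, hw⟩)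
      change g * w * g⁻¹ = w at this
      exact (mul_inv_eq_iff_eq_mul.1 this).symm)
    rw [QuotientGroup.mk'_apply, (QuotientGroup.eq_one_iff g).2 hgQ] at hg
    exact (inv_mul_eq_one.1 hg.symm)⟩
  have hord : ∀ a ∈ Q, ∃ k : ℕ, orderOf a = p ^ k := fun a ha => by
    obtain ⟨m, -, hm⟩ := (Nat.dvd_prime_pow hp.out).1
      (orderOf_dvd_of_pow_eq_one (n := p ^ 1) (by rw [pow_one]; exact hQexp a ha))
    exact ⟨m, hm⟩
  obtain ⟨n, hn⟩ := (CfsgLib.Solvable.pCore_isPGroup p (G ⧸ K)).exists_card_eq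
  have hn0 : 0 < n := Nat.pos_of_ne_zero fun h => hQne (Subgroup.card_eq_one.1 (by rw [hn, h, pow_zero]))
  have hcardE : Nat.card E = p ^ n := (Nat.card_congr Additive.toMul).trans hn
  have hexpE : ∀ e : E, p • e = 0 := fun e =>
    congrArg Additive.ofMul (Subtype.ext (by simpa using hQexp _ e.toMul.2) : e.toMul ^ p = 1)
  have hDp : ¬ p ∣ Nat.card D := fun h => hQi (by rw [Subgroup.index_eq_card]; exact h)
  have htrans : ∀ a b : E, a ≠ 0 → b ≠ 0 → ∃ d : D, d • a = b := by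
    intro a b ha hb
    have h1 : ∀ e : E, e ≠ 0 → (e.toMul : G ⧸ K) ≠ 1 := fun e he h =>
      he (congrArg Additive.ofMul (Subtype.ext h : e.toMul = 1))
    obtain ⟨c, hc⟩ := isConj_iff.1 (conj_of_surjective π hπ hconj _ _ (h1 a ha) (h1 b hb)
      (hord _ a.toMul.2) (hord _ b.toMul.2))
    exact ⟨(c : D), congrArg Additive.ofMul (Subtype.ext hc)⟩
  -- the map to the linear group
  let f : G →* D := (QuotientGroup.mk' Q).comp π
  have hf : Function.Surjective f := (QuotientGroup.mk'_surjective Q).comp hπ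
  have hfN : ∀ g, g ∈ f.ker ↔ π g ∈ Q := fun g => QuotientGroup.eq_one_iff _
  have hle := card_conjClasses_le_preg (p := p) f hf hDp
  have hKcase : ∀ v ∈ K, f v = 1 ∧ ¬ p ∣ orderOf v := fun v hv =>
    ⟨(hfN v).2 (by rw [show π v = 1 from (QuotientGroup.eq_one_iff v).2 hv]; exact one_mem _),
      fun h => hKp (h.trans (Subgroup.orderOf_dvd_natCard K hv))⟩
  -- when the core is trivial and `D` acts regularly
  have hreg : K = ⊥ → Nat.card D = p ^ n - 1 →
      pregCount p G = Nat.card (ConjClasses D) ∧ Nat.card f.ker = p ^ n ∧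
        ∃ H : Subgroup G, IsComplement' f.ker H ∧ Nonempty (↥H ≃* D) ∧
          ∀ h ∈ H, h ≠ 1 → f.ker ⊓ centralizer {h} = ⊥ := by
    intro hK0 hDcard
    have hπi : Function.Injective π := by
      rw [← MonoidHom.ker_eq_bot_iff]
      exact (QuotientGroup.ker_mk' K).trans hK0
    have hkc : Nat.card f.ker = p ^ n := by
      rw [← hn]
      refine Nat.card_eq_of_bijective (fun g : f.ker => (⟨π g, (hfN g).1 g.2⟩ : Q)) ⟨?_, ?_⟩
      · exact fun a b h => Subtype.ext (hπi (congrArg Subtype.val h))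
      · rintro ⟨q, hq⟩
        obtain ⟨g, rfl⟩ := hπ q
        exact ⟨⟨g, (hfN g).2 hq⟩, rfl⟩
    have hfree : ∀ g : G, f g ≠ 1 → ∀ v ∈ f.ker, v * g = g * v → v = 1 := by
      intro g hg v hv hvg
      by_contra hv1
      let e : E := Additive.ofMul ⟨π v, (hfN v).1 hv⟩
      have he : e ≠ 0 := fun h => hv1 (hπi ((congrArg (fun x : E => (x.toMul : G ⧸ K)) h).trans (map_one π).symm))
      have hfix : f g • e = e := congrArg Additive.ofMul (Subtype.ext (by
        show π g * π v * (π g)⁻¹ = π v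
        rw [← map_mul, ← hvg, map_mul, mul_inv_cancel_right]))
      have horb : MulAction.orbit D e = ({0} : Set E)ᶜ := by
        ext x
        refine ⟨?_, fun hx => htrans e x he hx⟩
        rintro ⟨d, rfl⟩ h
        exact he ((smul_eq_zero_iff_eq d).1 h)
      haveI := Fintype.ofFinite D
      haveI := Fintype.ofFinite (MulAction.orbit D e)
      have hos := MulAction.card_orbit_mul_card_stabilizer_eq_card_group D e
      simp only [← Nat.card_eq_fintype_card] at hos
      rw [horb, Nat.card_coe_set_eq, Set.ncard_compl, hcardE, Set.ncard_singleton, ← hDcard] at hos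
      have hst := Nat.eq_of_mul_eq_mul_left (Nat.card_pos (α := D)) (hos.trans (mul_one _).symm)
      exact hg (Subgroup.mem_bot.1 (Subgroup.card_eq_one.1 hst ▸ MulAction.mem_stabilizer_iff.2 hfix))
    have hkp : IsPGroup p f.ker := IsPGroup.of_card hkc
    refine ⟨pregCount_eq_of_fpf f hf hDp hkp hfree, hkc, ?_⟩
    have hidx : f.ker.index = Nat.card D := by
      rw [Subgroup.index_ker, MonoidHom.range_eq_top.2 hf, Subgroup.card_top]
    obtain ⟨H, hH⟩ := Subgroup.exists_right_complement'_of_coprime (N := f.ker)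
      (by rw [hkc, hidx]; exact (hp.out.coprime_iff_not_dvd.2 hDp).pow_left n)
    refine ⟨H, hH, ⟨MulEquiv.ofBijective (f.comp H.subtype) ⟨?_, ?_⟩⟩, ?_⟩
    · rw [injective_iff_map_eq_one]
      exact fun h hh => Subtype.ext ((Subgroup.disjoint_def.1 hH.disjoint) (MonoidHom.mem_ker.2 hh) h.2)
    · intro d
      obtain ⟨g, rfl⟩ := hf d
      obtain ⟨⟨a, b⟩, rfl⟩ := hH.2 g
      exact ⟨b, by show f b = f (a * b); rw [map_mul, MonoidHom.mem_ker.1 a.2, one_mul]⟩
    · intro h hh h1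
      refine (Subgroup.eq_bot_iff_forall _).2 fun v hv =>
        hfree h (fun e => h1 ((Subgroup.disjoint_def.1 hH.disjoint) (MonoidHom.mem_ker.2 e) hh)) v hv.1
          (mem_centralizer_singleton_iff.1 hv.2)
  rcases hlin D E n hn0 hexpE hcardE hDp htrans with hc | ⟨hn1, hD, hc⟩ | ⟨hp11, hn2, hD, hc, ⟨e⟩⟩
  · exact Or.inl (hc.trans hle)
  · rcases eq_or_ne K ⊥ with hK0 | hK1
    · obtain ⟨hcount, hkc, H, hH, ⟨eH⟩, hfpf⟩ := hreg hK0 (by rw [hD, hn1, pow_one])
      refine Or.inr (Or.inl ⟨hcount.trans hc, ?_⟩)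
      rw [hn1, pow_one] at hkc
      exact nonempty_equiv_affine f.ker H hH hkc ((Nat.card_congr eH.toEquiv).trans hD) hfpf
    · obtain ⟨v, hv, hv1⟩ := (K.bot_or_exists_ne_one).resolve_left hK1
      have := card_conjClasses_lt_preg f hf hDp (hKcase v hv).1 hv1 (hKcase v hv).2
      exact Or.inl (by omega)
  · subst hp11
    rcases eq_or_ne K ⊥ with hK0 | hK1
    · obtain ⟨hcount, hkc, H, hH, ⟨eH⟩, hfpf⟩ := hreg hK0 (by rw [hD, hn2]; norm_num)
      refine Or.inr (Or.inr ⟨rfl, hcount.trans hc, ?_, H, ?_, ⟨eH.trans e⟩⟩)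
      · rw [← hH.card_mul_card, hkc, Nat.card_congr eH.toEquiv, hD, hn2]; norm_num
      · refine CfsgLib.Frobenius.isFrobeniusComplement_of_fpf hH (fun h => ?_) (fun h => ?_) hfpf
        · rw [h, Subgroup.card_bot, hn2] at hkc; norm_num at hkc
        · have := Nat.card_congr eH.toEquiv
          rw [h, Subgroup.card_bot, hD] at this; norm_num at this
    · let e0 : G ⧸ f.ker ≃* D := QuotientGroup.quotientKerEquivOfSurjective f hf
      refine Or.inl (eleven_extra K f.ker (fun v hv => MonoidHom.mem_ker.2 (hKcase v hv).1) hK1 hKp ?_ ?_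
        ((Nat.card_congr e0.toEquiv).trans hD) ?_ ⟨e0.trans e⟩)
      · have hidx : f.ker.index = Q.index := by
          rw [Subgroup.index_ker, MonoidHom.range_eq_top.2 hf, Subgroup.card_top, Subgroup.index_eq_card]
        have h1 := Subgroup.relIndex_mul_index (H := K) (K := f.ker)
          fun v hv => MonoidHom.mem_ker.2 (hKcase v hv).1
        have h2 := Q.card_mul_index
        rw [hidx] at h1
        rw [← Subgroup.index_eq_card, hn, hn2] at h2
        have := Nat.eq_of_mul_eq_mul_right (Nat.pos_of_ne_zero Q.index_ne_zero_of_finite) (h1.trans h2.symm)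
        exact this.trans (by norm_num)
      · intro x hx hxK y hy hyK
        have hne : ∀ z, z ∉ K → π z ≠ 1 := fun z hz h => hz ((QuotientGroup.eq_one_iff z).1 h)
        obtain ⟨c, hc⟩ := isConj_iff.1 (conj_of_surjective π hπ hconj (π x) (π y) (hne x hxK) (hne y hyK)
          (hord _ ((hfN x).1 hx)) (hord _ ((hfN y).1 hy)))
        obtain ⟨g, rfl⟩ := hπ c
        refine ⟨g, (QuotientGroup.eq_one_iff _).1 ?_⟩
        show π (g * x * g⁻¹ * y⁻¹) = 1
        rw [map_mul, map_mul, map_mul, map_inv, map_inv, hc, mul_inv_cancel]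
      · exact hc.ge.trans (card_conjClasses_le_of_surjective e0.toMonoidHom e0.surjective)

end CfsgLib.KpRegular
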